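import Groth.Agent.Ribbon.K137.BlowRibDual
import Groth.Agent.S17665
import Groth.Agent.CurvesC.DualEuler
import Groth.Agent.CurvesC.TailNum

/-!
# The dualizing module of the blow-up of a ribbon on the projective line in a rational point
-/

set_option autoImplicit false
universe u
open CategoryTheory CategoryTheory.Limits AlgebraicGeometry TopologicalSpace
open Groth.Agent Groth.Agent.VarietyB Groth.Agent.VarietyB.DegPhi

namespace K137.RibBlow

open K932.Hdim K932.RibCoh K932.RibSplit Ega2.Tens K932 Groth.Agent.CurvesC.CurveNum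

section point

variable (k : Type u) [Field k]

theorem finrank_structure_of_isIso (Z : Scheme.{u}) [Z.Over (Spec (CommRingCat.of k))]
    (h : IsIso (Z ↘ (Spec (CommRingCat.of k)))) :
    Module.finrank k (Coh.HH Z (Coh.structureModule Z) 0) = 1 := by
  let _ : Module k (Coh.Γtop Z) := topMod k Z
  rw [(hZeroTop k Z).finrank_eq]
  have hb : Function.Bijective (Coh.toGlobal (Z ↘ (Spec (CommRingCat.of k)))) := by
    have h1 : IsIso (Z ↘ (Spec (CommRingCat.of k))).appTop :=
      inferInstanceAs (IsIso ((Z ↘ (Spec (CommRingCat.of k))).app ⊤))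
    have h2 : Function.Bijective (Z ↘ (Spec (CommRingCat.of k))).appTop.hom :=
      (ConcreteCategory.isIso_iff_bijective _).1 h1
    have h3 : Function.Bijective (Scheme.ΓSpecIso (CommRingCat.of k)).inv.hom :=
      ConcreteCategory.bijective_of_isIso (Scheme.ΓSpecIso (CommRingCat.of k)).inv
    exact h2.comp h3
  let L : k →ₗ[k] Coh.Γtop Z :=
    { toFun := Coh.toGlobal (Z ↘ (Spec (CommRingCat.of k)))
      map_add' := map_add _
      map_smul' := fun c x => map_mul _ _ _ }
  exact (LinearEquiv.ofBijective L hb).finrank_eq.symm.trans (Module.finrank_self k)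

variable {D : Scheme.{u}} [D.Over (Spec (CommRingCat.of k))] (e : D ≅ CohB1.ProjSpace 1 k)
  (he : e.hom ≫ CohB1.ProjSpace.toSpec 1 k = D ↘ (Spec (CommRingCat.of k)))

include he in
theorem euler_pull_p1 {m : ℤ} {G : D.Modules}
    (hG : Nonempty (G ≅ (Scheme.Modules.pullback e.hom).obj (Twist.twistProjSpace 1 k m))) :
    Curv2.euler k D G = m + 1 := by
  obtain ⟨eG⟩ := hG
  have h1 : Coh.IsQCoh ((Scheme.Modules.pullback e.hom).obj (Twist.twistProjSpace 1 k m)) :=
    Ega2.QCohLocal.isQCoh_of_isInvertible (RibP1.isInvertible_pull k e.hom m)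
  rw [euler_congr k eG, ← HHPush.euler_push e.hom k he _ h1,
    euler_congr k (SqKill.pushPullOfIso e.hom (Twist.twistProjSpace 1 k m)), P1Deg.euler_twist]

include he in
/-- The ideal of a rational point of the projective line is `O(-1)`. -/
theorem ideal_point (δ : D.IdealSheafData) (hδ : BlowUp.IsEffCartierIdeal δ)
    (ep : δ.subscheme ≅ Spec (CommRingCat.of k))
    (hep : ep.hom = δ.subschemeι ≫ (D ↘ (Spec (CommRingCat.of k)))) :
    Nonempty (ClSub.idealMod δ ≅
      (Scheme.Modules.pullback e.hom).obj (Twist.twistProjSpace 1 k (-1))) := by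
  have hprop : IsProper (D ↘ (Spec (CommRingCat.of k))) := by
    rw [← he]
    have : IsProper (CohB1.ProjSpace.toSpec 1 k) := inferInstance
    infer_instance
  have hdim : topologicalKrullDim D = 1 := by
    rw [(e.hom.homeomorph.isHomeomorph).topologicalKrullDim_eq, S10829.result k 1]
    rfl
  have := RibDeg.isLocallyNoetherian k D
  obtain ⟨m, hm⟩ := RibPic.exists_iso k e (ClSub.idealMod δ)
    (Groth.Agent.Dix.IdealModCartier.isInvertible_idealMod hδ)
  have h1 := S1524.result k D _ (DegCartier.idealSeq_shortExact δ)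
    (DegCartier.isCoh_idealMod δ) (CurvesB.UnitCoh.isCoh_structureModule D) (DegCartier.isCoh_quotMod δ)
  have h1' : Curv2.euler k D (Coh.structureModule D) =
    Curv2.euler k D (ClSub.idealMod δ) + Curv2.euler k D (ClSub.quotMod δ) := h1
  have h2 := euler_pull_p1 k e he hm
  have h3 := euler_pull_p1 k e he (P1Deg.unit_pull k e)
  have h4 := DegCartier.euler_quotMod k hdim.le δ hδ
  have h5 : Module.finrank k (Coh.HH D (ClSub.quotMod δ) 0) = 1 := by
    let _ : δ.subscheme.Over (Spec (CommRingCat.of k)) := ⟨δ.subschemeι ≫ (D ↘ (Spec (CommRingCat.of k)))⟩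
    rw [← CurvesC.TailNum.finrank_quotMod k D δ 0]
    refine finrank_structure_of_isIso k δ.subscheme ?_
    change IsIso (δ.subschemeι ≫ (D ↘ (Spec (CommRingCat.of k))))
    rw [← hep]
    infer_instance
  rw [h3, h2, h4, h5] at h1'
  have hm1 : m = -1 := by
    push_cast at h1'
    omega
  rwa [hm1] at hm

end point

section blow

variable (k : Type u) [Field k] (C : Scheme.{u}) [C.Over (Spec (CommRingCat.of k))]
  [IsProper (C ↘ (Spec (CommRingCat.of k)))] (I : C.IdealSheafData) (hI : I ^ 2 = ⊥)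
  (e : I.subscheme ≅ CohB1.ProjSpace 1 k)
  (he : e.hom ≫ CohB1.ProjSpace.toSpec 1 k = I.subschemeι ≫ (C ↘ (Spec (CommRingCat.of k))))

/-- `f^* e^* T ≅ (f ≫ e)^* T`, with a reformulation of the first factor. -/
theorem pull_pull {X Y Z : Scheme.{u}} (f : X ⟶ Y) (q : Y ⟶ Z) {T : Z.Modules} {N : Y.Modules}
    (h : Nonempty (N ≅ (Scheme.Modules.pullback q).obj T)) :
    Nonempty ((Scheme.Modules.pullback f).obj N ≅ (Scheme.Modules.pullback (f ≫ q)).obj T) := by
  obtain ⟨e1⟩ := h
  exact ⟨(Scheme.Modules.pullback f).mapIso e1 ≪≫ (Scheme.Modules.pullbackComp f q).app T⟩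

include hI he in
/-- The numerical data of the blow-up of a ribbon on the projective line in a rational point. -/
theorem exists_blow_data {a c : ℤ}
    (hconormal : Nonempty ((Scheme.Modules.pullback I.subschemeι).obj (ClSub.idealMod I) ≅
      (Scheme.Modules.pullback e.hom).obj (Twist.twistProjSpace 1 k c)))
    (δ : I.subscheme.IdealSheafData) (hδ : BlowUp.IsEffCartierIdeal δ)
    (ep : δ.subscheme ≅ Spec (CommRingCat.of k))
    (hep : ep.hom = δ.subschemeι ≫ I.subschemeι ≫ (C ↘ (Spec (CommRingCat.of k))))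
    (X : Scheme.{u}) (b : X ⟶ C) (hb : BlowUp.IsBlowUp b (δ.subschemeι ≫ I.subschemeι).ker)
    {w : C.Modules} (hw : PicF.IsInvertible w)
    (hwr : Nonempty ((Scheme.Modules.pullback I.subschemeι).obj w ≅
      (Scheme.Modules.pullback e.hom).obj (Twist.twistProjSpace 1 k a)))
    (hne : ¬ Van C w 1) :
    IsProper b ∧ ∃ (I' : X.IdealSheafData) (e' : I'.subscheme ≅ CohB1.ProjSpace 1 k), I' ^ 2 = ⊥ ∧
      e'.hom ≫ CohB1.ProjSpace.toSpec 1 k = I'.subschemeι ≫ b ≫ (C ↘ (Spec (CommRingCat.of k))) ∧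
      Nonempty ((Scheme.Modules.pullback I'.subschemeι).obj (ClSub.idealMod I') ≅
        (Scheme.Modules.pullback e'.hom).obj (Twist.twistProjSpace 1 k (c + 1))) ∧
      PicF.IsInvertible (CohB1.tensorMod ((Scheme.Modules.pullback b).obj w)
        (ClSub.idealMod (BlowUp.exceptional b (δ.subschemeι ≫ I.subschemeι).ker))) ∧
      Nonempty ((Scheme.Modules.pullback I'.subschemeι).obj
        (CohB1.tensorMod ((Scheme.Modules.pullback b).obj w)
          (ClSub.idealMod (BlowUp.exceptional b (δ.subschemeι ≫ I.subschemeι).ker))) ≅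
        (Scheme.Modules.pullback e'.hom).obj (Twist.twistProjSpace 1 k (a + -1))) ∧
      ¬ Van X (CohB1.tensorMod ((Scheme.Modules.pullback b).obj w)
        (ClSub.idealMod (BlowUp.exceptional b (δ.subschemeι ≫ I.subschemeι).ker))) 1 := by
  have hnoeth := RibDeg.isLocallyNoetherian k C
  have h𝓛 : PicF.IsInvertible ((Scheme.Modules.pullback I.subschemeι).obj (ClSub.idealMod I)) :=
    RibP1.isInvertible_of_iso_pull k e.hom hconormal
  -- the ideal of the point
  have hδ1 : Nonempty (ClSub.idealMod δ ≅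
      (Scheme.Modules.pullback e.hom).obj (Twist.twistProjSpace 1 k (-1))) := by
    let _ : I.subscheme.Over (Spec (CommRingCat.of k)) :=
      ⟨I.subschemeι ≫ (C ↘ (Spec (CommRingCat.of k)))⟩
    exact ideal_point k e he δ hδ ep hep
  have hM : ClSub.IsInverseOf ((Scheme.Modules.pullback e.hom).obj (Twist.twistProjSpace 1 k 1))
      (ClSub.idealMod δ) := by
    obtain ⟨e1⟩ := hδ1
    obtain ⟨e2⟩ := tensor_unit k e.hom (a := 1) (b := -1) (by omega)
    exact ⟨mapTIso (Iso.refl _) e1 ≪≫ e2⟩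
  obtain ⟨I', φ, hI', hφ, hcon'⟩ := exists_ribbon I hI h𝓛 δ hδ _ hM b hb
  have hft : BlowUp.IsFiniteTypeIdeal (δ.subschemeι ≫ I.subschemeι).ker := fun U => by
    have : IsNoetherianRing Γ(C, U.1) := IsLocallyNoetherian.component_noetherian U
    exact (isNoetherianRing_iff_ideal_fg _).1 this _
  have hbp : IsProper b := Groth.Agent.Flat2C.BlowProper.isProper_of_isBlowUp hb hft
  refine ⟨hbp, I', φ ≪≫ e, hI', ?_, ?_, ?_, ?_, ?_⟩
  · rw [Iso.trans_hom, Category.assoc, he, ← Category.assoc, ← hφ, Category.assoc]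
  · -- the conormal bundle
    obtain ⟨e1⟩ := hcon'
    obtain ⟨e2⟩ := tensor_p1 k e.hom hconormal ⟨Iso.refl _⟩
    have h1 : Nonempty ((Scheme.Modules.pullback φ.hom).obj
        ((Scheme.Modules.pullback (φ.inv ≫ I'.subschemeι)).obj (ClSub.idealMod I')) ≅
        (Scheme.Modules.pullback (φ.hom ≫ e.hom)).obj (Twist.twistProjSpace 1 k (c + 1))) :=
      pull_pull φ.hom e.hom ⟨e1 ≪≫ e2⟩
    obtain ⟨e3⟩ := h1
    have e4 : (Scheme.Modules.pullback I'.subschemeι).obj (ClSub.idealMod I') ≅
        (Scheme.Modules.pullback φ.hom).obj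
        ((Scheme.Modules.pullback (φ.inv ≫ I'.subschemeι)).obj (ClSub.idealMod I')) :=
      (Scheme.Modules.pullbackCongr (by rw [Iso.hom_inv_id_assoc])).app _ ≪≫
        ((Scheme.Modules.pullbackComp φ.hom (φ.inv ≫ I'.subschemeι)).app _).symm
    exact ⟨e4 ≪≫ e3⟩
  · exact Fdesc.LocGen.isInvertible_tensorMod (Fdesc.LocGen.isInvertible_pullback b hw)
      (Groth.Agent.Dix.IdealModCartier.isInvertible_idealMod hb.1)
  · -- the restriction to `D`
    have hcomap : (BlowUp.exceptional b (δ.subschemeι ≫ I.subschemeι).ker).comap I'.subschemeι =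
        δ.comap φ.hom := by
      have hKc : (δ.subschemeι ≫ I.subschemeι).ker.comap I.subschemeι = δ :=
        Groth.Agent.Fga.HilbClosed.comap_map I.subschemeι δ
      change ((δ.subschemeι ≫ I.subschemeι).ker.comap b).comap I'.subschemeι = _
      rw [← Scheme.IdealSheafData.comap_comp, hφ, Scheme.IdealSheafData.comap_comp, hKc]
    have hδ' : BlowUp.IsEffCartierIdeal (δ.comap φ.hom) :=
      Groth.Agent.Divis.EffCartier.isEff_comap_flat hδ φ.hom
    obtain ⟨e1⟩ := Groth.Agent.Dix.IdealModCartier.pullback_idealMod I'.subschemeι hb.1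
      (by rw [hcomap]; exact hδ')
    obtain ⟨e2⟩ := Groth.Agent.Dix.IdealModCartier.pullback_idealMod φ.hom hδ hδ'
    obtain ⟨e3⟩ := pull_pull φ.hom e.hom hδ1
    rw [hcomap] at e1
    have h1 : Nonempty ((Scheme.Modules.pullback I'.subschemeι).obj ((Scheme.Modules.pullback b).obj w) ≅
        (Scheme.Modules.pullback (φ.hom ≫ e.hom)).obj (Twist.twistProjSpace 1 k a)) := by
      obtain ⟨e5⟩ := pull_pull φ.hom e.hom hwr
      exact ⟨(Scheme.Modules.pullbackComp I'.subschemeι b).app w ≪≫
        (Scheme.Modules.pullbackCongr hφ).app w ≪≫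
        ((Scheme.Modules.pullbackComp φ.hom I.subschemeι).app w).symm ≪≫ e5⟩
    obtain ⟨e6⟩ := tensor_p1 k (φ.hom ≫ e.hom) h1 ⟨e1 ≪≫ e2.symm ≪≫ e3⟩
    exact ⟨Ega3B.PullTensor.pullTensorIso I'.subschemeι (Fdesc.LocGen.isInvertible_pullback b hw)
      (Groth.Agent.Dix.IdealModCartier.isInvertible_idealMod hb.1) ≪≫ e6⟩
  · -- non-vanishing
    obtain ⟨σ, hσ, hcl⟩ := exists_lift I δ hδ b hb
    have : IsClosedImmersion (σ ≫ b) := by rw [hσ]; infer_instance
    have haff : IsAffine δ.subscheme := IsAffine.of_isIso ep.hom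
    have h1 := not_van_blow k σ b (by rw [hσ, I.ker_subschemeι, hI])
      (by rw [hσ, conormal_subschemeι]; exact h𝓛) δ hδ (by rw [hσ]; exact hb) haff hw hne
    rw [hσ] at h1
    exact h1

end blow

end K137.RibBlow
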