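import Groth.Agent.Ribbon.K137.BlowRibGlue
import Groth.Agent.Fga.HilbClosed
import Groth.Agent.ArSurf.K482.TensCalc

/-!
# The blow-up of a ribbon in a Cartier divisor of the reduced subscheme
-/

set_option autoImplicit false

universe u

open CategoryTheory CategoryTheory.Limits AlgebraicGeometry Opposite TopologicalSpace

namespace K137.RibBlow

open Groth.Agent.Dix.IdealModCartier
open Groth.Agent.UnramB.FirstOrderNbhd (SqZ)

/-- The strict transform of `D`: the lift to the blow-up. -/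
theorem exists_lift {C X : Scheme.{u}} (I : C.IdealSheafData) (δ : I.subscheme.IdealSheafData)
    (hδ : BlowUp.IsEffCartierIdeal δ) (b : X ⟶ C)
    (hb : BlowUp.IsBlowUp b (δ.subschemeι ≫ I.subschemeι).ker) :
    ∃ σ : I.subscheme ⟶ X, σ ≫ b = I.subschemeι ∧ IsClosedImmersion σ := by
  have hKc : (δ.subschemeι ≫ I.subschemeι).ker.comap I.subschemeι = δ :=
    Groth.Agent.Fga.HilbClosed.comap_map I.subschemeι δ
  obtain ⟨σ, hσ, -⟩ := hb.2 _ I.subschemeι (by rw [hKc]; exact hδ)
  have : IsSeparated b := Groth.Agent.Flat2C.BlowProper.isSeparated_of_isBlowUp hb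
  have : IsClosedImmersion (σ ≫ b) := by rw [hσ]; infer_instance
  exact ⟨σ, hσ, IsClosedImmersion.of_comp σ b⟩

theorem conormal_subschemeι {C : Scheme.{u}} (I : C.IdealSheafData) :
    Omega.conormal I.subschemeι = (Scheme.Modules.pullback I.subschemeι).obj (ClSub.idealMod I) := by
  unfold Omega.conormal
  rw [I.ker_subschemeι]

/-- Cancelling the divisor. -/
theorem nonempty_cancel {D : Scheme.{u}} {L N M P : D.Modules}
    (e : Nonempty (L ≅ CohB1.tensorMod N P)) (hM : Nonempty (CohB1.tensorMod M P ≅ Coh.structureModule D)) :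
    Nonempty (N ≅ CohB1.tensorMod L M) := by
  open K482.TensCalc in
  exact symm (trans (congr e (refl M)) (trans (assoc N P M)
    (trans (congr (refl N) (trans (comm P M) hM)) ⟨Groth.Agent.Ega2.Tens.runit N⟩)))

theorem exists_ribbon {C X : Scheme.{u}} (I : C.IdealSheafData) (hI : I ^ 2 = ⊥)
    (h𝓛 : PicF.IsInvertible ((Scheme.Modules.pullback I.subschemeι).obj (ClSub.idealMod I)))
    (δ : I.subscheme.IdealSheafData) (hδ : BlowUp.IsEffCartierIdeal δ)
    (M : I.subscheme.Modules) (hM : ClSub.IsInverseOf M (ClSub.idealMod δ)) (b : X ⟶ C)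
    (hb : BlowUp.IsBlowUp b (δ.subschemeι ≫ I.subschemeι).ker) :
    ∃ (I' : X.IdealSheafData) (φ : I'.subscheme ≅ I.subscheme), I' ^ 2 = ⊥ ∧
      I'.subschemeι ≫ b = φ.hom ≫ I.subschemeι ∧
      Nonempty ((Scheme.Modules.pullback (φ.inv ≫ I'.subschemeι)).obj (ClSub.idealMod I') ≅
        CohB1.tensorMod ((Scheme.Modules.pullback I.subschemeι).obj (ClSub.idealMod I)) M) := by
  obtain ⟨σ, hσ, hcl⟩ := exists_lift I δ hδ b hb
  have : IsClosedImmersion (σ ≫ b) := by rw [hσ]; infer_instance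
  rw [← conormal_subschemeι] at h𝓛 ⊢
  obtain ⟨h1, h2⟩ := main σ b (by rw [hσ, I.ker_subschemeι, hI]) (by rw [hσ]; exact h𝓛) δ hδ
    (by rw [hσ]; exact hb)
  rw [hσ] at h2
  have hinv : σ.toImage ≫ σ.ker.subschemeι = σ := σ.toImage_imageι
  refine ⟨σ.ker, (asIso σ.toImage).symm, h1, ?_, ?_⟩
  · have : σ.ker.subschemeι = inv σ.toImage ≫ σ := by
      rw [IsIso.eq_inv_comp, hinv]
    change σ.ker.subschemeι ≫ b = inv σ.toImage ≫ I.subschemeι
    rw [← hσ, ← Category.assoc, ← this]
  · change Nonempty ((Scheme.Modules.pullback (σ.toImage ≫ σ.ker.subschemeι)).obj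
      (ClSub.idealMod σ.ker) ≅ _)
    rw [hinv]
    exact nonempty_cancel h2 hM

end K137.RibBlow
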