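import Groth.Agent.Ribbon.K137.BlowRib
import Groth.Agent.Pic13.H945.IdealPull

/-!
# The blow-up of a ribbon in a divisor is affine, and the direct image of the exceptional ideal
-/

set_option autoImplicit false

universe u

open CategoryTheory CategoryTheory.Limits AlgebraicGeometry Opposite TopologicalSpace

namespace K137.RibBlowAlg

variable {B R A : Type u} [CommRing B] [CommRing R] [CommRing A]
  (φ : B →+* R) {t z : B} {u : R}

/-- `R = φ B + u φ B`. -/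
theorem exists_add_mul (hz : z * z = 0) (hτ : φ t ∈ nonZeroDivisors R)
    (hgen : ∀ g : R, ∃ (n : ℕ) (m : B), m ∈ (Ideal.span {t, z}) ^ n ∧ φ t ^ n * g = φ m)
    (hu : φ z = φ t * u) (g : R) : ∃ α β : B, g = φ α + u * φ β := by
  obtain ⟨n, m, hm, hgm⟩ := hgen g
  rcases n with _ | n
  · exact ⟨m, 0, by rw [← hgm]; simp⟩
  · obtain ⟨α, β, rfl⟩ := exists_of_mem_pow hz hm
    refine ⟨α, β, ?_⟩
    have h5 : φ t ^ (n + 1) * (g - (φ α + u * φ β)) = 0 := by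
      rw [mul_sub, hgm]
      simp only [map_add, map_mul, map_pow, hu]
      ring
    have h6 := (mem_nonZeroDivisors_iff_right.1 (pow_mem hτ (n + 1))) _
      (by rw [mul_comm]; exact h5)
    rwa [sub_eq_zero] at h6

end K137.RibBlowAlg

namespace K137.RibBlow

open Groth.Agent.Divis.BlowChart2
open Groth.Agent.UnramB.FirstOrderNbhd (SqZ)
open K953.MultConormal
open Groth.Agent.Dix.IdealModCartier (GenOn genOn_of_affine exists_genOn exists_affine_mem_le)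

section loc

variable {D X C : Scheme.{u}} (σ : D ⟶ X) (b : X ⟶ C)

/-- More on the local shape of the blow-up over an affine open. -/
structure Good' (δ : D.IdealSheafData) (U : C.affineOpens) (z t : Γ(C, U.1))
    (u : Γ(X, b ⁻¹ᵁ U.1)) : Prop extends Good σ b δ U z t u where
  cen : (δ.subschemeι ≫ (σ ≫ b)).ker.ideal U = Ideal.span {t, z}
  inj : Function.Injective (b.app U.1).hom
  nzd : (b.app U.1).hom t ∈ nonZeroDivisors Γ(X, b ⁻¹ᵁ U.1)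
  gen : ∀ g : Γ(X, b ⁻¹ᵁ U.1), ∃ α β : Γ(C, U.1), g = (b.app U.1).hom α + u * (b.app U.1).hom β

theorem exists_good' [IsClosedImmersion σ] [IsClosedImmersion (σ ≫ b)] (hi : SqZ (σ ≫ b))
    (h : PicF.IsInvertible (Omega.conormal (σ ≫ b))) (δ : D.IdealSheafData)
    (hδ : BlowUp.IsEffCartierIdeal δ) (hb : BlowUp.IsBlowUp b (δ.subschemeι ≫ (σ ≫ b)).ker) (d : D)
    (V₀ : D.Opens) (hd : d ∈ V₀) :
    ∃ (U : C.affineOpens) (z t : Γ(C, U.1)) (u : Γ(X, b ⁻¹ᵁ U.1)), (σ ≫ b) d ∈ U.1 ∧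
      (σ ≫ b) ⁻¹ᵁ U.1 ≤ V₀ ∧ Good' σ b δ U z t u := by
  obtain ⟨W₀, f, hdW, hf⟩ := exists_genOn hδ d
  obtain ⟨U, z, hdU, hUW', hz, hann⟩ := exists_princ (σ ≫ b) hi h d (W₀.1 ⊓ V₀) ⟨hdW, hd⟩
  have hUW : (σ ≫ b) ⁻¹ᵁ U.1 ≤ W₀.1 := hUW'.trans inf_le_left
  obtain ⟨t, ht⟩ := (σ ≫ b).app_surjective U.1 U.2 (Groth.Agent.Fdesc.LocGen.ores hUW f)
  have hreg : GenOn δ ((σ ≫ b).app U.1 t : Γ(D, (σ ≫ b) ⁻¹ᵁ U.1)) := by
    rw [ht]; exact hf.res hUW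
  have hregU := hreg ⟨(σ ≫ b) ⁻¹ᵁ U.1, U.2.preimage _⟩ le_rfl
  rw [Groth.Agent.Fdesc.LocGen.ores_refl] at hregU
  have hz0 : (σ ≫ b).app U.1 z = 0 := by
    rw [app_eq_zero_iff_mem (σ ≫ b) U.2]
    exact hz ▸ Ideal.mem_span_singleton_self z
  have hz2 : z * z = 0 := hi U.1 z z hz0 hz0
  have hK : (δ.subschemeι ≫ (σ ≫ b)).ker.ideal U = Ideal.span {t, z} := by
    apply le_antisymm
    · intro a ha
      rw [ker_comp_ideal, hregU.2, Ideal.mem_span_singleton] at ha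
      obtain ⟨r, hr⟩ := ha
      obtain ⟨r', rfl⟩ := (σ ≫ b).app_surjective U.1 U.2 r
      have h1 : (σ ≫ b).app U.1 (a - t * r') = 0 := by
        rw [map_sub, map_mul, sub_eq_zero]
        exact hr
      rw [app_eq_zero_iff_mem (σ ≫ b) U.2] at h1
      have h1' : a - t * r' ∈ Ideal.span {z} := hz ▸ h1
      obtain ⟨c, hc⟩ := Ideal.mem_span_singleton.1 h1'
      rw [Ideal.mem_span_pair]
      exact ⟨r', c, by linear_combination -hc⟩
    · rw [Ideal.span_le]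
      rintro a (rfl | ha)
      · change a ∈ (δ.subschemeι ≫ (σ ≫ b)).ker.ideal U
        rw [ker_comp_ideal, hregU.2]
        exact Ideal.mem_span_singleton_self _
      · have : a = z := ha
        subst this
        change a ∈ (δ.subschemeι ≫ (σ ≫ b)).ker.ideal U
        rw [ker_comp_ideal]
        have h0 : ((σ ≫ b).app U.1).hom a = 0 := hz0
        rw [h0]
        exact Ideal.zero_mem _
  obtain ⟨haff, hτ, hgen, hinj, u, hu⟩ := chart_facts' b _ U hb hK hz2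
  have hcomp : ∀ c : Γ(C, U.1), ((σ ≫ b).app U.1).hom c =
      (σ.app (b ⁻¹ᵁ U.1)).hom ((b.app U.1).hom c) := by
    intro c
    rw [Scheme.Hom.comp_app]
    rfl
  have hker : ∀ c : Γ(C, U.1), (σ.app (b ⁻¹ᵁ U.1)).hom ((b.app U.1).hom c) = 0 →
      c ∈ Ideal.span {z} := by
    intro c hc
    rw [← hcomp] at hc
    have h1 := (app_eq_zero_iff_mem (σ ≫ b) U.2 c).1 hc
    exact hz ▸ h1
  have ht' : (σ.app (b ⁻¹ᵁ U.1)).hom ((b.app U.1).hom t) ∈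
      nonZeroDivisors Γ(D, σ ⁻¹ᵁ (b ⁻¹ᵁ U.1)) := by
    rw [← hcomp]
    exact hregU.1
  have hzz : (σ.app (b ⁻¹ᵁ U.1)).hom ((b.app U.1).hom z) = 0 := by
    rw [← hcomp]
    exact hz0
  refine ⟨U, z, t, u, hdU, hUW'.trans inf_le_right, ⟨⟨haff, hz, hann, hreg, hu, ?_, ?_, ?_⟩, hK, ?_, hτ, ?_⟩⟩
  · rw [Scheme.Hom.ker_apply]
    exact RibBlowAlg.ker_eq (b.app U.1).hom (σ.app (b ⁻¹ᵁ U.1)).hom hker hz2 ht' hτ hgen hzz hu
  · intro a ha
    exact RibBlowAlg.ann_le (b.app U.1).hom (σ.app (b ⁻¹ᵁ U.1)).hom hker hz2 hann ht' hτ hgen hinj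
      hzz hu ha
  · exact RibBlowAlg.sq_eq_zero (b.app U.1).hom hz2 hτ hu
  · exact RibBlowAlg.φ_injective (b.app U.1).hom (σ.app (b ⁻¹ᵁ U.1)).hom hker hz2 hann ht' hinj hzz
  · exact RibBlowAlg.exists_add_mul (b.app U.1).hom hz2 hτ hgen hu

/-- Good affine opens of `C` form a basis. -/
theorem exists_good_nhd [IsClosedImmersion σ] [IsClosedImmersion (σ ≫ b)]
    (h2 : (σ ≫ b).ker ^ 2 = ⊥)
    (h : PicF.IsInvertible (Omega.conormal (σ ≫ b))) (δ : D.IdealSheafData)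
    (hδ : BlowUp.IsEffCartierIdeal δ) (hb : BlowUp.IsBlowUp b (δ.subschemeι ≫ (σ ≫ b)).ker) (x : C)
    (U₀ : C.Opens) (hx : x ∈ U₀) :
    ∃ (U : C.affineOpens) (z t : Γ(C, U.1)) (u : Γ(X, b ⁻¹ᵁ U.1)), x ∈ U.1 ∧
      U.1 ≤ U₀ ∧ Good' σ b δ U z t u := by
  have hsurj := K953.MultBasic.surjective_of_ker_pow (σ ≫ b) 2 h2
  obtain ⟨d, rfl⟩ := (σ ≫ b).surjective x
  obtain ⟨U, z, t, u, hd, hU, hg⟩ := exists_good' σ b (SqZ.of_ker _ h2) h δ hδ hb d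
    ((σ ≫ b) ⁻¹ᵁ U₀) hx
  refine ⟨U, z, t, u, hd, fun y hy => ?_, hg⟩
  obtain ⟨d', rfl⟩ := (σ ≫ b).surjective y
  exact hU hy

/-- The blow-up morphism is affine. -/
theorem isAffineHom [IsClosedImmersion σ] [IsClosedImmersion (σ ≫ b)]
    (h2 : (σ ≫ b).ker ^ 2 = ⊥)
    (h : PicF.IsInvertible (Omega.conormal (σ ≫ b))) (δ : D.IdealSheafData)
    (hδ : BlowUp.IsEffCartierIdeal δ) (hb : BlowUp.IsBlowUp b (δ.subschemeι ≫ (σ ≫ b)).ker) :
    IsAffineHom b := by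
  apply isAffineHom_of_forall_exists_isAffineOpen
  intro x
  obtain ⟨U, z, t, u, hx, -, hg⟩ := exists_good_nhd σ b h2 h δ hδ hb x ⊤ trivial
  exact ⟨U.1, hx, U.2, hg.aff⟩

/-- The exceptional ideal over a good affine open. -/
theorem Good'.comap_ideal {σ : D ⟶ X} {b : X ⟶ C} {δ : D.IdealSheafData} {U : C.affineOpens}
    {z t : Γ(C, U.1)} {u : Γ(X, b ⁻¹ᵁ U.1)} (hg : Good' σ b δ U z t u) :
    ((δ.subschemeι ≫ (σ ≫ b)).ker.comap b).ideal ⟨b ⁻¹ᵁ U.1, hg.aff⟩ =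
      Ideal.span {(b.app U.1).hom t} := by
  rw [Groth.Agent.Divis.IdealComap.ideal_comap _ b U ⟨b ⁻¹ᵁ U.1, hg.aff⟩ le_rfl, hg.cen,
    ← Scheme.Hom.app_eq_appLE, Ideal.map_span]
  apply le_antisymm
  · rw [Ideal.span_le]
    rintro _ ⟨a, ha, rfl⟩
    rcases ha with rfl | ha
    · exact Ideal.mem_span_singleton_self _
    · have : a = z := ha
      subst this
      exact Ideal.mem_span_singleton.2 ⟨u, hg.rel⟩
  · rw [Ideal.span_singleton_le_iff_mem]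
    exact Ideal.subset_span ⟨t, by simp, rfl⟩

open Groth.Agent.Pic13.H945.IdealPull Groth.Agent.Dix.IdealModCartier in
/-- The direct image of the exceptional ideal is the ideal of the centre. -/
theorem isIso_psi [IsClosedImmersion σ] [IsClosedImmersion (σ ≫ b)]
    (h2 : (σ ≫ b).ker ^ 2 = ⊥)
    (h : PicF.IsInvertible (Omega.conormal (σ ≫ b))) (δ : D.IdealSheafData)
    (hδ : BlowUp.IsEffCartierIdeal δ) (hb : BlowUp.IsBlowUp b (δ.subschemeι ≫ (σ ≫ b)).ker) :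
    IsIso (psi b (δ.subschemeι ≫ (σ ≫ b)).ker) := by
  refine Groth.Agent.Sga67.LocBasis.isIso_of_bijective _ fun x U₀ hx => ?_
  obtain ⟨U, z, t, u, hxU, hU, hg⟩ := exists_good_nhd σ b h2 h δ hδ hb x U₀ hx
  have hval : ∀ s : Γ(ClSub.idealMod (δ.subschemeι ≫ (σ ≫ b)).ker, U.1),
      val ((δ.subschemeι ≫ (σ ≫ b)).ker.comap b)
        (pullVal b (δ.subschemeι ≫ (σ ≫ b)).ker (le_refl (b ⁻¹ᵁ U.1)) s) =
        (b.app U.1).hom (val _ s) := by
    intro s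
    rw [val_pullVal, ← Scheme.Hom.app_eq_appLE]
  refine ⟨U.1, hU, hxU, ?_, ?_⟩
  · intro s s' hs
    have h3 : pullVal b (δ.subschemeι ≫ (σ ≫ b)).ker (le_refl (b ⁻¹ᵁ U.1)) s =
      pullVal b (δ.subschemeι ≫ (σ ≫ b)).ker (le_refl (b ⁻¹ᵁ U.1)) s' := hs
    exact val_injective _ (hg.inj ((hval s).symm.trans ((congrArg _ h3).trans (hval s'))))
  · intro g'
    let r : Γ(ClSub.idealMod ((δ.subschemeι ≫ (σ ≫ b)).ker.comap b), b ⁻¹ᵁ U.1) := g'
    have h3 := val_mem _ ⟨b ⁻¹ᵁ U.1, hg.aff⟩ r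
    rw [hg.comap_ideal, Ideal.mem_span_singleton] at h3
    obtain ⟨q, hq⟩ := h3
    obtain ⟨α, β, rfl⟩ := hg.gen q
    have h4 : t * α + z * β ∈ (δ.subschemeι ≫ (σ ≫ b)).ker.ideal U := by
      rw [hg.cen, Ideal.mem_span_pair]
      exact ⟨α, β, by ring⟩
    obtain ⟨s, hs⟩ := exists_val_eq _ U h4
    refine ⟨s, ?_⟩
    change pullVal b (δ.subschemeι ≫ (σ ≫ b)).ker (le_refl (b ⁻¹ᵁ U.1)) s = r
    apply val_injective
    rw [hval, hs, hq, map_add, map_mul, map_mul, hg.rel]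
    ring

end loc

end K137.RibBlow
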