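import Mathlib.RingTheory.Ideal.Operations
import Mathlib.RingTheory.Ideal.Maps
import Mathlib.Algebra.GroupWithZero.NonZeroDivisors
import Mathlib.Tactic.Ring
import Mathlib.Tactic.LinearCombination

/-!
# The algebra of the blow-up of a ribbon in a Cartier divisor of its reduced subscheme
-/

set_option autoImplicit false

universe u

namespace K137.RibBlowAlg

variable {B R A : Type u} [CommRing B] [CommRing R] [CommRing A]

/-- Elements of `(t, z) ^ n`, where `z ^ 2 = 0`. -/
theorem exists_of_mem_pow {t z : B} (hz : z * z = 0) {n : ℕ} {m : B}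
    (hm : m ∈ (Ideal.span {t, z}) ^ (n + 1)) : ∃ α β : B, m = t ^ (n + 1) * α + t ^ n * z * β := by
  induction n generalizing m with
  | zero =>
    rw [zero_add, pow_one, Ideal.mem_span_pair] at hm
    obtain ⟨a, b, rfl⟩ := hm
    exact ⟨a, b, by ring⟩
  | succ n ih =>
    rw [pow_succ] at hm
    refine Submodule.mul_induction_on hm ?_ ?_
    · intro x hx y hy
      obtain ⟨α, β, rfl⟩ := ih hx
      obtain ⟨a, b, rfl⟩ := Ideal.mem_span_pair.1 hy
      refine ⟨α * a, α * b + β * a, ?_⟩
      linear_combination (t ^ n * β * b) * hz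
    · rintro x y ⟨α, β, rfl⟩ ⟨α', β', rfl⟩
      exact ⟨α + α', β + β', by ring⟩

variable (φ : B →+* R) (s : R →+* A) {t z : B} {u : R}

section

variable (hker : ∀ b, s (φ b) = 0 → b ∈ Ideal.span {z}) (hz : z * z = 0)
  (hann : ∀ a, a * z = 0 → a ∈ Ideal.span {z})
  (ht : s (φ t) ∈ nonZeroDivisors A) (hτ : φ t ∈ nonZeroDivisors R)
  (hgen : ∀ g : R, ∃ (n : ℕ) (m : B), m ∈ (Ideal.span {t, z}) ^ n ∧ φ t ^ n * g = φ m)
  (hinj : ∀ c : B, φ c = 0 → ∃ n : ℕ, t ^ n * c = 0)
  (hzz : s (φ z) = 0)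
  (hu : φ z = φ t * u)

include hz hτ hu in
theorem sq_eq_zero : u * u = 0 := by
  have h1 : φ t * (φ t * (u * u)) = 0 := by
    have : φ t * (φ t * (u * u)) = φ z * φ z := by rw [hu]; ring
    rw [this, ← map_mul, hz, map_zero]
  have h2 := (mem_nonZeroDivisors_iff_right.1 hτ) _ (by rw [mul_comm]; exact h1)
  exact (mem_nonZeroDivisors_iff_right.1 hτ) _ (by rw [mul_comm]; exact h2)

include hzz hu ht in
theorem s_u : s u = 0 := by
  have h1 : s (φ t) * s u = 0 := by rw [← map_mul, ← hu, hzz]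
  exact (mem_nonZeroDivisors_iff_right.1 ht) _ (by rw [mul_comm]; exact h1)

include hzz in
theorem s_span {b : B} (hb : b ∈ Ideal.span {z}) : s (φ b) = 0 := by
  obtain ⟨c, rfl⟩ := Ideal.mem_span_singleton.1 hb
  rw [map_mul, map_mul, hzz, zero_mul]

include hker ht hzz in
/-- `t` is regular modulo `z`. -/
theorem mem_of_mul_mem {a : B} (n : ℕ) (h : t ^ n * a ∈ Ideal.span {z}) : a ∈ Ideal.span {z} := by
  apply hker
  have h1 := s_span φ s hzz h
  rw [map_mul, map_mul, map_pow, map_pow] at h1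
  exact (mem_nonZeroDivisors_iff_right.1 (pow_mem ht n)) _ (by rw [mul_comm]; exact h1)

include hker ht hzz hann hz in
theorem t_regular {a : B} (n : ℕ) (h : t ^ n * a = 0) : a = 0 := by
  have h1 : a ∈ Ideal.span {z} := mem_of_mul_mem φ s hker ht hzz n (h ▸ Ideal.zero_mem _)
  obtain ⟨c, rfl⟩ := Ideal.mem_span_singleton.1 h1
  have h2 : t ^ n * c ∈ Ideal.span {z} := hann _ (by rw [← h]; ring)
  have h3 := mem_of_mul_mem φ s hker ht hzz n h2
  obtain ⟨d, rfl⟩ := Ideal.mem_span_singleton.1 h3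
  rw [← mul_assoc, hz, zero_mul]

include hker ht hzz hann hz hinj in
theorem φ_injective : Function.Injective φ := by
  rw [injective_iff_map_eq_zero]
  intro c hc
  obtain ⟨n, hn⟩ := hinj c hc
  exact t_regular φ s hker hz hann ht hzz n hn

include hker hz ht hτ hgen hzz hu in
/-- The kernel of `s` is generated by `u`. -/
theorem ker_eq : RingHom.ker s = Ideal.span {u} := by
  apply le_antisymm
  · intro g hg
    rw [RingHom.mem_ker] at hg
    obtain ⟨n, m, hm, hgm⟩ := hgen g
    have h1 : s (φ m) = 0 := by rw [← hgm, map_mul, hg, mul_zero]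
    have h2 := hker m h1
    rcases n with _ | n
    · obtain ⟨c, rfl⟩ := Ideal.mem_span_singleton.1 h2
      rw [pow_zero, one_mul] at hgm
      rw [hgm, map_mul, hu, Ideal.mem_span_singleton]
      exact ⟨φ t * φ c, by ring⟩
    · obtain ⟨α, β, rfl⟩ := exists_of_mem_pow hz hm
      have h3 : t ^ (n + 1) * α ∈ Ideal.span {z} := by
        have h4 : t ^ n * z * β ∈ Ideal.span {z} :=
          Ideal.mem_span_singleton.2 ⟨t ^ n * β, by ring⟩
        have h5 := Ideal.sub_mem _ h2 h4
        rwa [add_sub_cancel_right] at h5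
      have h4 := mem_of_mul_mem φ s hker ht hzz (n + 1) h3
      obtain ⟨γ, rfl⟩ := Ideal.mem_span_singleton.1 h4
      have h5 : φ t ^ (n + 1) * (g - u * (φ β + φ t * φ γ)) = 0 := by
        rw [mul_sub, hgm]
        simp only [map_add, map_mul, map_pow, hu]
        ring
      have h6 := (mem_nonZeroDivisors_iff_right.1 (pow_mem hτ (n + 1))) _
        (by rw [mul_comm]; exact h5)
      rw [sub_eq_zero] at h6
      rw [h6]
      exact Ideal.mem_span_singleton.2 ⟨_, rfl⟩
  · rw [Ideal.span_singleton_le_iff_mem, RingHom.mem_ker]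
    exact s_u φ s ht hzz hu

include hker hz hann ht hτ hgen hinj hzz hu in
/-- The annihilator of `u` is contained in `(u)`. -/
theorem ann_le {g : R} (hg : g * u = 0) : g ∈ Ideal.span {u} := by
  rw [← ker_eq φ s hker hz ht hτ hgen hzz hu, RingHom.mem_ker]
  obtain ⟨n, m, hm, hgm⟩ := hgen g
  have h1 : φ (m * z) = 0 := by
    rw [map_mul, ← hgm, hu]
    linear_combination (φ t ^ n * φ t) * hg
  have h2 : m * z = 0 :=
    φ_injective φ s hker hz hann ht hinj hzz (by rw [h1, map_zero])
  have h3 := s_span φ s hzz (hann m h2)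
  rw [← hgm, map_mul, map_pow] at h3
  exact (mem_nonZeroDivisors_iff_right.1 (pow_mem ht n)) _ (by rw [mul_comm]; exact h3)

end

end K137.RibBlowAlg
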