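import Groth.Agent.MultCurve.K953.Conormal
import Groth.Agent.Divis.BlowChart2
import Groth.Agent.Dix.IdealModCartier
import Groth.Agent.Flat2C.BlowProper
import Groth.Agent.Ribbon.K137.BlowRibAlg

/-!
# Charts of the blow-up of a ribbon in a Cartier divisor of the reduced subscheme
-/

set_option autoImplicit false

universe u

open CategoryTheory CategoryTheory.Limits AlgebraicGeometry Opposite TopologicalSpace

namespace K137.RibBlow

open Groth.Agent.Divis.BlowChart2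

section chart

variable {X C : Scheme.{u}} (b : X ⟶ C) (K : C.IdealSheafData) (hb : BlowUp.IsBlowUp b K)
  (U : C.affineOpens)

include hb in
/-- The chart of a nilpotent element is empty. -/
theorem chart_eq_bot {z : Γ(C, U.1)} (hz : z ∈ K.ideal U) (hz2 : z * z = 0) : chart b K U z = ⊥ := by
  have h1 := appLE_chart_mem_nonZeroDivisors b K U hb hz
  have h2 : (b.appLE U.1 (chart b K U z) (chart_le b K U z)).hom z *
      (b.appLE U.1 (chart b K U z) (chart_le b K U z)).hom z = 0 := by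
    rw [← map_mul, hz2, map_zero]
  have h3 := (mem_nonZeroDivisors_iff_right.1 h1) _ h2
  rw [h3] at h1
  have h4 : (1 : Γ(X, chart b K U z)) = 0 := (mem_nonZeroDivisors_iff_right.1 h1) _ (mul_zero _)
  rw [eq_bot_iff]
  intro x hx
  have h5 := congrArg (X.presheaf.germ (chart b K U z) x hx).hom h4
  rw [map_one, map_zero] at h5
  exact absurd h5 one_ne_zero

include hb in
theorem chart_eq_preimage {t z : Γ(C, U.1)} (hK : K.ideal U = Ideal.span {t, z}) (hz2 : z * z = 0) :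
    chart b K U t = b ⁻¹ᵁ U.1 := by
  have hz : z ∈ K.ideal U := by
    rw [hK]; exact Ideal.subset_span (by simp)
  apply le_antisymm (chart_le b K U t)
  intro x hx
  obtain ⟨a, ha, hxa⟩ := exists_mem_chart_of_span b K U hb.1 hK x hx
  rcases ha with rfl | ha
  · exact hxa
  · have : a = z := ha
    subst this
    rw [chart_eq_bot b K hb U hz hz2] at hxa
    exact absurd hxa (by simp)

theorem appLE_eq_zero_iff {a : Γ(C, U.1)} (hb : BlowUp.IsBlowUp b K) (ha : a ∈ K.ideal U)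
    (c : Γ(C, U.1)) (hc : (b.appLE U.1 (chart b K U a) (chart_le b K U a)).hom c = 0) :
    ∃ n : ℕ, a ^ n * c = 0 := by
  obtain ⟨θ, hθ⟩ := exists_ringEquiv_chart b K U hb ha
  rw [← hθ, map_eq_zero_iff θ θ.injective] at hc
  have h1 := congrArg Subtype.val hc
  change algebraMap Γ(C, U.1) (Localization.Away a) c = 0 at h1
  rw [IsLocalization.map_eq_zero_iff (Submonoid.powers a)] at h1
  obtain ⟨⟨_, n, rfl⟩, h⟩ := h1
  exact ⟨n, h⟩

/-- The facts about the chart, on an arbitrary open equal to it. -/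
theorem chart_facts {t : Γ(C, U.1)} (hb : BlowUp.IsBlowUp b K) (ht : t ∈ K.ideal U) (V : X.Opens)
    (hV : chart b K U t = V) (hle : V ≤ b ⁻¹ᵁ U.1) :
    IsAffineOpen V ∧ (b.appLE U.1 V hle).hom t ∈ nonZeroDivisors Γ(X, V) ∧
    (∀ g : Γ(X, V), ∃ (n : ℕ) (m : Γ(C, U.1)), m ∈ (K.ideal U) ^ n ∧
      (b.appLE U.1 V hle).hom t ^ n * g = (b.appLE U.1 V hle).hom m) ∧
    (∀ c : Γ(C, U.1), (b.appLE U.1 V hle).hom c = 0 → ∃ n : ℕ, t ^ n * c = 0) ∧
    (∀ m ∈ K.ideal U, ∃ g : Γ(X, V), (b.appLE U.1 V hle).hom m = (b.appLE U.1 V hle).hom t * g) := by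
  subst hV
  refine ⟨isAffineOpen_chart b K U hb ht, appLE_chart_mem_nonZeroDivisors b K U hb ht,
    fun g => exists_pow_mul_eq_appLE b K U hb ht g, appLE_eq_zero_iff b K U hb ht, fun m hm => ?_⟩
  obtain ⟨g, hg⟩ := exists_eq_pow_mul_appLE b K U hb ht 1 (m := m) (by rwa [pow_one])
  exact ⟨g, by rw [hg, pow_one]⟩

theorem chart_facts' {t z : Γ(C, U.1)} (hb : BlowUp.IsBlowUp b K)
    (hK : K.ideal U = Ideal.span {t, z}) (hz2 : z * z = 0) :
    IsAffineOpen (b ⁻¹ᵁ U.1) ∧ (b.app U.1).hom t ∈ nonZeroDivisors Γ(X, b ⁻¹ᵁ U.1) ∧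
    (∀ g : Γ(X, b ⁻¹ᵁ U.1), ∃ (n : ℕ) (m : Γ(C, U.1)), m ∈ (Ideal.span {t, z}) ^ n ∧
      (b.app U.1).hom t ^ n * g = (b.app U.1).hom m) ∧
    (∀ c : Γ(C, U.1), (b.app U.1).hom c = 0 → ∃ n : ℕ, t ^ n * c = 0) ∧
    (∃ g : Γ(X, b ⁻¹ᵁ U.1), (b.app U.1).hom z = (b.app U.1).hom t * g) := by
  have ht : t ∈ K.ideal U := by
    rw [hK]; exact Ideal.subset_span (by simp)
  have hz : z ∈ K.ideal U := by
    rw [hK]; exact Ideal.subset_span (by simp)
  have h := chart_facts b K U hb ht (b ⁻¹ᵁ U.1) (chart_eq_preimage b K hb U hK hz2) le_rfl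
  rw [← Scheme.Hom.app_eq_appLE] at h
  rw [hK] at h
  exact ⟨h.1, h.2.1, h.2.2.1, h.2.2.2.1, h.2.2.2.2 z (hK ▸ hz)⟩

end chart

end K137.RibBlow
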