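import Groth.Agent.Ribbon.K137.BlowRibAff
import Groth.Agent.Ribbon.K932.RibSplit

/-!
# Line bundles on a ribbon detected by duality; `H^1` of the twist of a pull-back to the blow-up
-/

set_option autoImplicit false
universe u
open CategoryTheory CategoryTheory.Limits AlgebraicGeometry TopologicalSpace
open Groth.Agent Groth.Agent.VarietyB

namespace K137.RibBlow

open K932.Hdim K932.RibCoh K932.RibSplit Ega2.Tens K932

section van

variable (k : Type u) [Field k] {X : Scheme.{u}} [X.Over (Spec (CommRingCat.of k))]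

include k

theorem van_middle {A B D : X.Modules} {f : A ⟶ B} {g : B ⟶ D} {w : f ≫ g = 0}
    (hS : (ShortComplex.mk f g w).ShortExact) {n : ℕ} (hA : Van X A n) (hD : Van X D n) :
    Van X B n := by
  have hA' : Subsingleton (Coh.HH X A n) := hA
  have hD' : Subsingleton (Coh.HH X D n) := hD
  have key : ∀ x : Coh.HH X B n, x = 0 := fun x => by
    obtain ⟨y, rfl⟩ := (VarietyA.EulerLES.exactA₂ k (ShortComplex.mk f g w) hS n x).mp
      (Subsingleton.elim _ _)
    rw [Subsingleton.elim y 0, map_zero]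
  exact ⟨fun x y => (key x).trans (key y).symm⟩

omit k [Field k] [X.Over (Spec (CommRingCat.of k))] in
theorem van_affine {Z : Scheme.{u}} (hZ : IsAffine Z) (M : Z.Modules) (hM : Coh.IsQCoh M) {n : ℕ}
    (hn : 0 < n) : Van Z M n := by
  have := hM
  exact CohqA.AffineVanish.HH_subsingleton Z M n hn

end van

section blow

variable (k : Type u) [Field k] {D X C : Scheme.{u}} [C.Over (Spec (CommRingCat.of k))]
  (σ : D ⟶ X) (b : X ⟶ C)

include k in
/-- If `H^1(C, ω) ≠ 0` then `H^1(X, b^* ω ⊗ I_E) ≠ 0`, for the blow-up `b` of a ribbon in a divisor of the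
reduced subscheme which is affine. -/
theorem not_van_blow [IsClosedImmersion σ] [IsClosedImmersion (σ ≫ b)]
    (h2 : (σ ≫ b).ker ^ 2 = ⊥)
    (h : PicF.IsInvertible (Omega.conormal (σ ≫ b))) (δ : D.IdealSheafData)
    (hδ : BlowUp.IsEffCartierIdeal δ) (hb : BlowUp.IsBlowUp b (δ.subschemeι ≫ (σ ≫ b)).ker)
    (haff : IsAffine δ.subscheme) {w : C.Modules} (hw : PicF.IsInvertible w) (h1 : ¬ Van C w 1) :
    ¬ Van X (CohB1.tensorMod ((Scheme.Modules.pullback b).obj w)
      (ClSub.idealMod ((δ.subschemeι ≫ (σ ≫ b)).ker.comap b))) 1 := by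
  intro hv
  apply h1
  let _ : X.Over (Spec (CommRingCat.of k)) := ⟨b ≫ (C ↘ (Spec (CommRingCat.of k)))⟩
  have hab : IsAffineHom b := isAffineHom σ b h2 h δ hδ hb
  have hpsi := isIso_psi σ b h2 h δ hδ hb
  have hq : Coh.IsQCoh (CohB1.tensorMod ((Scheme.Modules.pullback b).obj w)
      (ClSub.idealMod ((δ.subschemeι ≫ (σ ≫ b)).ker.comap b))) :=
    Ega2.QCohLocal.isQCoh_of_isInvertible (Fdesc.LocGen.isInvertible_tensorMod
      (Fdesc.LocGen.isInvertible_pullback b hw)
      (Groth.Agent.Dix.IdealModCartier.isInvertible_idealMod hb.1))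
  have h3 : Van C ((Scheme.Modules.pushforward b).obj (CohB1.tensorMod ((Scheme.Modules.pullback b).obj w)
      (ClSub.idealMod ((δ.subschemeι ≫ (σ ≫ b)).ker.comap b)))) 1 := van_push k b rfl _ hq hv
  have h4 : Van C (CohB1.tensorMod w (ClSub.idealMod (δ.subschemeι ≫ (σ ≫ b)).ker)) 1 :=
    van_congr ((ProjForm.projIso b (P1Deg.hasBases hw) _).symm ≪≫
      mapTIso (Iso.refl w) (asIso (Groth.Agent.Pic13.H945.IdealPull.psi b _)).symm) h3
  have h5 : Van C ((Scheme.Modules.pushforward (δ.subschemeι ≫ (σ ≫ b)).ker.subschemeι).obj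
      ((Scheme.Modules.pullback (δ.subschemeι ≫ (σ ≫ b)).ker.subschemeι).obj w)) 1 := by
    let _ : (δ.subschemeι ≫ (σ ≫ b)).ker.subscheme.Over (Spec (CommRingCat.of k)) :=
      ⟨(δ.subschemeι ≫ (σ ≫ b)).ker.subschemeι ≫ (C ↘ (Spec (CommRingCat.of k)))⟩
    have hq' : Coh.IsQCoh
        ((Scheme.Modules.pullback (δ.subschemeι ≫ (σ ≫ b)).ker.subschemeι).obj w) :=
      Ega2.QCohLocal.isQCoh_of_isInvertible (Fdesc.LocGen.isInvertible_pullback _ hw)
    have haff' : IsAffine (δ.subschemeι ≫ (σ ≫ b)).ker.subscheme := by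
      have : IsIso (δ.subschemeι ≫ (σ ≫ b)).toImage := inferInstance
      exact IsAffine.of_isIso (inv (δ.subschemeι ≫ (σ ≫ b)).toImage)
    exact van_push k _ rfl _ hq' (van_affine haff' _ hq' one_pos)
  exact van_middle k (RestrSeq.restrSeq_shortExact (P1Deg.hasBases hw) _) h4 h5

end blow

section Curve

variable (k : Type u) [Field k] {C : Scheme.{u}} [C.Over (Spec (CommRingCat.of k))]
  [IsProper (C ↘ (Spec (CommRingCat.of k)))] {I : C.IdealSheafData} (hI : I ^ 2 = ⊥)
  (e : I.subscheme ≅ CohB1.ProjSpace 1 k)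
  (he : e.hom ≫ CohB1.ProjSpace.toSpec 1 k = I.subschemeι ≫ (C ↘ (Spec (CommRingCat.of k))))

attribute [local instance] CurvesC.LinMod.linearModules in
include hI he in
/-- If `w` represents the dual of `H^1`, `w` and `L` restrict to `O(a)` on `D` and `H^1(L) ≠ 0`, then `w ≅ L`. -/
theorem iso_of_not_van {a c : ℤ} (hc0 : c < 0)
    (hc : Nonempty ((Scheme.Modules.pullback I.subschemeι).obj (ClSub.idealMod I) ≅
      (Scheme.Modules.pullback e.hom).obj (Twist.twistProjSpace 1 k c)))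
    {w L : C.Modules} (hw : PicF.IsInvertible w) (hL : PicF.IsInvertible L)
    (ha : Nonempty ((Scheme.Modules.pullback I.subschemeι).obj w ≅
      (Scheme.Modules.pullback e.hom).obj (Twist.twistProjSpace 1 k a)))
    (hLr : Nonempty ((Scheme.Modules.pullback I.subschemeι).obj L ≅
      (Scheme.Modules.pullback e.hom).obj (Twist.twistProjSpace 1 k a)))
    (h1 : ¬ Van C L 1)
    (t : CurvesC.HV C w 1 →ₗ[k] k)
    (hdual : ∀ F : C.Modules, Coh.IsQCoh F →
      Function.Bijective (fun φ : F ⟶ w => t ∘ₗ CurvesC.HV.map k φ 1)) :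
    Nonempty (w ≅ L) := by
  obtain ⟨L', hL', ⟨eu'⟩⟩ := Grpsch.PicGrp.exists_inverse hL
  have eu : CohB1.tensorMod L' L ≅ Coh.structureModule C := Ega2.Tens.swap L' L ≪≫ eu'
  -- the restriction of `L'`
  have hLr' : Nonempty ((Scheme.Modules.pullback I.subschemeι).obj L' ≅
      (Scheme.Modules.pullback e.hom).obj (Twist.twistProjSpace 1 k (-a))) := by
    refine K482.TensCalc.cancel_right (RibP1.isInvertible_pull k e.hom a) ?_
    obtain ⟨e1⟩ := hLr
    obtain ⟨e2⟩ := tensor_unit k e.hom (a := -a) (b := a) (by omega)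
    exact ⟨mapTIso (Iso.refl _) e1.symm ≪≫ (Ega3B.PullTensor.pullTensorIso I.subschemeι hL' hL).symm ≪≫
      (Scheme.Modules.pullback I.subschemeι).mapIso eu ≪≫
      PerfB.TensUnit.pullbackUnit I.subschemeι ≪≫ e2.symm⟩
  -- a nonzero map `L ⟶ w`
  obtain ⟨φ, hφ⟩ : ∃ φ : L ⟶ w, φ ≠ 0 := by
    by_contra hcon
    push Not at hcon
    apply h1
    have hb := hdual L (Ega2.QCohLocal.isQCoh_of_isInvertible hL)
    have h2 : ∀ x : CurvesC.HV C L 1, x = 0 := fun x => by
      rw [← Module.forall_dual_apply_eq_zero_iff k]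
      intro f
      obtain ⟨φ, hφ⟩ := hb.2 f
      rw [← hφ]
      change t (CurvesC.HV.map k φ 1 x) = 0
      rw [hcon φ, CurvesC.HV.map_zero, LinearMap.zero_apply, map_zero]
    exact ⟨fun x y => (h2 x).trans (h2 y).symm⟩
  have h5 : RestrSeq.tensMap L' φ ≠ 0 := fun h => hφ (eq_zero_of_tensMap (A := L) eu' φ h)
  have h6 : eu.inv ≫ RestrSeq.tensMap L' φ ≠ 0 := fun h => h5 (by
    rw [← cancel_epi eu.inv, h, comp_zero])
  have hN : PicF.IsInvertible (CohB1.tensorMod L' w) := Fdesc.LocGen.isInvertible_tensorMod hL' hw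
  have hNr : Nonempty ((Scheme.Modules.pullback I.subschemeι).obj (CohB1.tensorMod L' w) ≅
      (Scheme.Modules.pullback e.hom).obj (Twist.twistProjSpace 1 k 0)) := by
    obtain ⟨e1⟩ := tensor_p1 k e.hom hLr' ha
    rw [neg_add_cancel] at e1
    exact ⟨Ega3B.PullTensor.pullTensorIso I.subschemeι hL' hw ≪≫ e1⟩
  have h7 := isIso_of_ne_zero k hI e he hN hc0 hNr hc _ h6
  -- conclude
  exact ⟨(lunit w).symm ≪≫ mapTIso eu'.symm (Iso.refl w) ≪≫ assoc L L' w ≪≫
    mapTIso (Iso.refl L) (asIso (eu.inv ≫ RestrSeq.tensMap L' φ)).symm ≪≫ runit L⟩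

end Curve

end K137.RibBlow
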