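import Groth.Agent.Ribbon.K137.BlowRibLoc

/-!
# The conormal bundle of the blow-up of a ribbon in a Cartier divisor of the reduced subscheme
-/

set_option autoImplicit false

universe u

open CategoryTheory CategoryTheory.Limits AlgebraicGeometry Opposite TopologicalSpace

namespace K137.RibBlow

open Groth.Agent.Fdesc.LocGen Groth.Agent.Picfga.LineHom
open Groth.Agent.Dix.IdealModCartier
open Groth.Agent.UnramB.FirstOrderNbhd (SqZ)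

section cg

variable {D C : Scheme.{u}} (i : D ⟶ C)

/-- The class in the conormal sheaf of a section of the ideal. -/
noncomputable def cg (V : C.Opens) (x : Γ(ClSub.idealMod i.ker, V)) : Γ(Omega.conormal i, i ⁻¹ᵁ V) :=
  Groth.Agent.Dual.H366.ConSec.cS i V x

theorem cg_smul (V : C.Opens) (a : Γ(C, V)) (x : Γ(ClSub.idealMod i.ker, V)) :
    cg i V (a • x) = (i.app V a : Γ(D, i ⁻¹ᵁ V)) • cg i V x :=
  K953.MultConormal.cS_smul i V a x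

theorem cg_res {V V' : C.Opens} (h : V' ≤ V) (x : Γ(ClSub.idealMod i.ker, V)) :
    res (Omega.conormal i) (i.preimage_mono h) (cg i V x) = cg i V' (res _ h x) :=
  (Groth.Agent.Dual.H366.ConSec.secS_res i (ClSub.idealMod i.ker) h x).symm

theorem isGen_cg [IsClosedImmersion i] (hi : SqZ i) {U : C.Opens} (hU : IsAffineOpen U) (z : Γ(C, U))
    (hz : i.ker.ideal ⟨U, hU⟩ = Ideal.span {z}) (hann : ∀ a, a * z = 0 → a ∈ Ideal.span {z})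
    (ζ : Γ(ClSub.idealMod i.ker, U)) (hζ : val i.ker ζ = z) : IsGen (cg i U ζ) :=
  isGen_cS i hi hU z hz hann ζ hζ

theorem app_ores {U V : C.Opens} (h : V ≤ U) (a : Γ(C, U)) :
    (i.app V (ores h a) : Γ(D, i ⁻¹ᵁ V)) = ores (i.preimage_mono h) (i.app U a : Γ(D, i ⁻¹ᵁ U)) :=
  congr($(i.naturality (homOfLE h).op) a)

end cg

section glue

variable {D X C : Scheme.{u}} (σ : D ⟶ X) (b : X ⟶ C)

/-- `cg`, over the preimage of an open of `C`. -/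
noncomputable def cgb (U : C.Opens) (υ : Γ(ClSub.idealMod σ.ker, b ⁻¹ᵁ U)) :
    Γ(Omega.conormal σ, (σ ≫ b) ⁻¹ᵁ U) := cg σ (b ⁻¹ᵁ U) υ

theorem cgb_res {U V : C.Opens} (h : V ≤ U) (υ : Γ(ClSub.idealMod σ.ker, b ⁻¹ᵁ U)) :
    res (Omega.conormal σ) ((σ ≫ b).preimage_mono h) (cgb σ b U υ) =
      cgb σ b V (res (ClSub.idealMod σ.ker) (b.preimage_mono h) υ) := cg_res σ (b.preimage_mono h) υ

theorem cgb_smul (U : C.Opens) (a : Γ(C, U)) (υ : Γ(ClSub.idealMod σ.ker, b ⁻¹ᵁ U)) :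
    cgb σ b U ((b.app U a : Γ(X, b ⁻¹ᵁ U)) • υ) =
      ((σ ≫ b).app U a : Γ(D, (σ ≫ b) ⁻¹ᵁ U)) • cgb σ b U υ := by
  have h1 : ((σ ≫ b).app U a : Γ(D, (σ ≫ b) ⁻¹ᵁ U)) =
      (σ.app (b ⁻¹ᵁ U) (b.app U a : Γ(X, b ⁻¹ᵁ U)) : Γ(D, σ ⁻¹ᵁ b ⁻¹ᵁ U)) := by
    rw [Scheme.Hom.comp_app]
    rfl
  rw [h1]
  exact cg_smul σ (b ⁻¹ᵁ U) _ υ

theorem isGen_cgb [IsClosedImmersion σ] (hσ : SqZ σ) {U : C.Opens} (hU : IsAffineOpen (b ⁻¹ᵁ U))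
    (u : Γ(X, b ⁻¹ᵁ U)) (hu : σ.ker.ideal ⟨b ⁻¹ᵁ U, hU⟩ = Ideal.span {u})
    (hann : ∀ a, a * u = 0 → a ∈ Ideal.span {u})
    (υ : Γ(ClSub.idealMod σ.ker, b ⁻¹ᵁ U)) (hυ : val σ.ker υ = u) : IsGen (cgb σ b U υ) :=
  isGen_cg σ hσ hU u hu hann υ hυ

theorem exists_affine_nbhd (i : D ⟶ C) [IsClosedImmersion i] (V : D.Opens) (W : C.Opens) (x : D)
    (hx : x ∈ V) (hxW : i x ∈ W) : ∃ U : C.affineOpens, i x ∈ U.1 ∧ i ⁻¹ᵁ U.1 ≤ V ∧ U.1 ≤ W := by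
  obtain ⟨V', hV'⟩ : ∃ V' : C.Opens, i ⁻¹ᵁ V' = V := by
    obtain ⟨O, hO, hO'⟩ := i.isClosedEmbedding.isInducing.isOpen_iff.mp V.2
    exact ⟨⟨O, hO⟩, Opens.ext hO'⟩
  subst hV'
  obtain ⟨U, hxU, hU⟩ := exists_affine_mem_le (V' ⊓ W) (i x) ⟨hx, hxW⟩
  exact ⟨U, hxU, i.preimage_mono (hU.trans inf_le_left), hU.trans inf_le_right⟩

theorem exists_trans [IsClosedImmersion σ] [IsClosedImmersion (σ ≫ b)]
    (δ : D.IdealSheafData) (hσ : SqZ σ)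
    {U₁ U₂ : C.affineOpens} {z₁ t₁ : Γ(C, U₁.1)} {z₂ t₂ : Γ(C, U₂.1)} {u₁ : Γ(X, b ⁻¹ᵁ U₁.1)}
    {u₂ : Γ(X, b ⁻¹ᵁ U₂.1)} (g₁ : Good σ b δ U₁ z₁ t₁ u₁) (g₂ : Good σ b δ U₂ z₂ t₂ u₂)
    {ζ₁ : Γ(ClSub.idealMod (σ ≫ b).ker, U₁.1)} {ζ₂ : Γ(ClSub.idealMod (σ ≫ b).ker, U₂.1)}
    (hζ₁ : val _ ζ₁ = z₁) (hζ₂ : val _ ζ₂ = z₂)
    {υ₁ : Γ(ClSub.idealMod σ.ker, b ⁻¹ᵁ U₁.1)} {υ₂ : Γ(ClSub.idealMod σ.ker, b ⁻¹ᵁ U₂.1)}
    (hυ₁ : val _ υ₁ = u₁) (hυ₂ : val _ υ₂ = u₂)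
    {ω₁ : Γ(ClSub.idealMod δ, (σ ≫ b) ⁻¹ᵁ U₁.1)} {ω₂ : Γ(ClSub.idealMod δ, (σ ≫ b) ⁻¹ᵁ U₂.1)}
    (hω₁ : val _ ω₁ = ((σ ≫ b).app U₁.1 t₁ : Γ(D, (σ ≫ b) ⁻¹ᵁ U₁.1)))
    (hω₂ : val _ ω₂ = ((σ ≫ b).app U₂.1 t₂ : Γ(D, (σ ≫ b) ⁻¹ᵁ U₂.1)))
    (U : C.affineOpens) (h₁ : U.1 ≤ U₁.1) (h₂ : U.1 ≤ U₂.1) :
    ∃ α : Γ(D, (σ ≫ b) ⁻¹ᵁ U.1),
      res _ ((σ ≫ b).preimage_mono h₁) (cg (σ ≫ b) U₁.1 ζ₁) =
        α • res _ ((σ ≫ b).preimage_mono h₂) (cg (σ ≫ b) U₂.1 ζ₂) ∧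
      res (CohB1.tensorMod (Omega.conormal σ) (ClSub.idealMod δ)) ((σ ≫ b).preimage_mono h₁)
          (tmul (cgb σ b U₁.1 υ₁) ω₁) =
        α • res (CohB1.tensorMod (Omega.conormal σ) (ClSub.idealMod δ)) ((σ ≫ b).preimage_mono h₂)
          (tmul (cgb σ b U₂.1 υ₂) ω₂) := by
  -- the transition function of the generators of the ideal
  have hk : ores h₁ z₁ ∈ Ideal.span {ores h₂ z₂} := by
    have e1 : (σ ≫ b).ker.ideal U = Ideal.span {ores h₂ z₂} := by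
      rw [← (σ ≫ b).ker.map_ideal (U := U) (V := U₂) h₂, g₂.ker, Ideal.map_span,
        Set.image_singleton]
      rfl
    have e2 : (σ ≫ b).ker.ideal U = Ideal.span {ores h₁ z₁} := by
      rw [← (σ ≫ b).ker.map_ideal (U := U) (V := U₁) h₁, g₁.ker, Ideal.map_span,
        Set.image_singleton]
      rfl
    rw [← e1, e2]
    exact Ideal.mem_span_singleton_self _
  obtain ⟨α, hα⟩ := Ideal.mem_span_singleton'.1 hk
  refine ⟨((σ ≫ b).app U.1 α : Γ(D, (σ ≫ b) ⁻¹ᵁ U.1)), ?_, ?_⟩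
  · rw [cg_res (σ ≫ b) h₁, cg_res (σ ≫ b) h₂, ← cg_smul]
    congr 1
    apply val_injective
    rw [val_smul, val_res, val_res, hζ₁, hζ₂, hα]
  · -- abbreviations
    let W : D.Opens := (σ ≫ b) ⁻¹ᵁ U.1
    have hW : IsAffineOpen W := U.2.preimage _
    have hb₁ : b ⁻¹ᵁ U.1 ≤ b ⁻¹ᵁ U₁.1 := b.preimage_mono h₁
    have hb₂ : b ⁻¹ᵁ U.1 ≤ b ⁻¹ᵁ U₂.1 := b.preimage_mono h₂
    set T₁ : Γ(D, W) := ores ((σ ≫ b).preimage_mono h₁) ((σ ≫ b).app U₁.1 t₁ : Γ(D, (σ ≫ b) ⁻¹ᵁ U₁.1))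
      with hT₁
    set T₂ : Γ(D, W) := ores ((σ ≫ b).preimage_mono h₂) ((σ ≫ b).app U₂.1 t₂ : Γ(D, (σ ≫ b) ⁻¹ᵁ U₂.1))
      with hT₂
    set c₁ : Γ(Omega.conormal σ, W) := cgb σ b U.1 (res _ hb₁ υ₁) with hc₁'
    set c₂ : Γ(Omega.conormal σ, W) := cgb σ b U.1 (res _ hb₂ υ₂) with hc₂'
    -- the relation between the generators upstairs
    have hrel : ∀ {U' : C.affineOpens} {z t : Γ(C, U'.1)} {u' : Γ(X, b ⁻¹ᵁ U'.1)}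
        (h : U.1 ≤ U'.1), (b.app U'.1).hom z = (b.app U'.1).hom t * u' →
        (b.app U.1 (ores h z) : Γ(X, b ⁻¹ᵁ U.1)) =
          (b.app U.1 (ores h t) : Γ(X, b ⁻¹ᵁ U.1)) * ores (b.preimage_mono h) u' := by
      intro U' z t u' h hr
      rw [app_ores b h z, app_ores b h t, ← map_mul]
      exact congrArg _ hr
    have hup : (b.app U.1 (ores h₁ t₁) : Γ(X, b ⁻¹ᵁ U.1)) • res (ClSub.idealMod σ.ker) hb₁ υ₁ =
        (b.app U.1 (α * ores h₂ t₂) : Γ(X, b ⁻¹ᵁ U.1)) • res (ClSub.idealMod σ.ker) hb₂ υ₂ := by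
      apply val_injective
      rw [val_smul, val_smul, val_res, val_res, hυ₁, hυ₂, ← hrel h₁ g₁.rel, map_mul, mul_assoc,
        ← hrel h₂ g₂.rel, ← hα, map_mul]
    have hdown : T₁ • c₁ = (((σ ≫ b).app U.1 α : Γ(D, W)) * T₂) • c₂ := by
      have h3 := congrArg (cgb σ b U.1) hup
      rw [cgb_smul, cgb_smul, map_mul] at h3
      rw [hT₁, hT₂, ← app_ores (σ ≫ b) h₁ t₁, ← app_ores (σ ≫ b) h₂ t₂]
      exact h3
    -- the generators of `δ`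
    have gω₁ : IsGen ω₁ := isGen_of_genOn (hω₁.symm ▸ g₁.reg)
    have gω₂ : IsGen ω₂ := isGen_of_genOn (hω₂.symm ▸ g₂.reg)
    have gυ₂ : IsGen (cgb σ b U₂.1 υ₂) := isGen_cgb σ b hσ g₂.aff u₂ g₂.ker' g₂.ann' υ₂ hυ₂
    obtain ⟨β, hβ, hβ'⟩ := exists_factor g₁.reg g₂.reg ((σ ≫ b).preimage_mono h₁)
      ((σ ≫ b).preimage_mono h₂) hω₁ hω₂
    have hn₂ : IsGen (tmul c₂ (res (ClSub.idealMod δ) ((σ ≫ b).preimage_mono h₂) ω₂)) := by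
      refine IsGen.tmul ?_ (gω₂.res _)
      rw [hc₂', ← cgb_res σ b h₂]
      exact gυ₂.res _
    rw [res_tmul, res_tmul, hβ, cgb_res σ b h₁, cgb_res σ b h₂]
    obtain ⟨γ, hγ⟩ := hn₂.exists_eq (tmul c₁ (β • res (ClSub.idealMod δ)
      ((σ ≫ b).preimage_mono h₂) ω₂))
    rw [hγ]
    congr 1
    have h5 : (T₂ * γ) • tmul c₂ (res (ClSub.idealMod δ) ((σ ≫ b).preimage_mono h₂) ω₂) =
        (T₂ * ((σ ≫ b).app U.1 α : Γ(D, W))) •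
          tmul c₂ (res (ClSub.idealMod δ) ((σ ≫ b).preimage_mono h₂) ω₂) := by
      have hβ'' : T₁ = T₂ * β := by rw [mul_comm]; exact hβ'
      rw [mul_smul, ← hγ, tmul_smul, smul_smul, ← hβ'', ← smul_tmul, hdown, smul_tmul, mul_comm T₂]
    have h6 : T₂ * γ = T₂ * ((σ ≫ b).app U.1 α : Γ(D, W)) := hn₂.ext h5
    have h7 : T₂ ∈ nonZeroDivisors Γ(D, W) := (g₂.reg ⟨W, hW⟩ ((σ ≫ b).preimage_mono h₂)).1
    exact (mul_cancel_left_mem_nonZeroDivisors h7).1 h6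

theorem nonempty_iso [IsClosedImmersion σ] [IsClosedImmersion (σ ≫ b)] (hi : SqZ (σ ≫ b)) (hσ : SqZ σ)
    (δ : D.IdealSheafData)
    (hgood : ∀ d : D, ∃ (U : C.affineOpens) (z t : Γ(C, U.1)) (u : Γ(X, b ⁻¹ᵁ U.1)),
      (σ ≫ b) d ∈ U.1 ∧ Good σ b δ U z t u) :
    Nonempty (Omega.conormal (σ ≫ b) ≅
      CohB1.tensorMod (Omega.conormal σ) (ClSub.idealMod δ)) := by
  choose U z t u hd hg using hgood
  have hζ : ∀ d, ∃ ζ : Γ(ClSub.idealMod (σ ≫ b).ker, (U d).1), val _ ζ = z d := fun d =>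
    exists_val_eq _ (U d) ((hg d).ker ▸ Ideal.mem_span_singleton_self _)
  have hυ : ∀ d, ∃ υ : Γ(ClSub.idealMod σ.ker, b ⁻¹ᵁ (U d).1), val _ υ = u d := fun d =>
    exists_val_eq _ ⟨b ⁻¹ᵁ (U d).1, (hg d).aff⟩ ((hg d).ker' ▸ Ideal.mem_span_singleton_self _)
  have hω : ∀ d, ∃ ω : Γ(ClSub.idealMod δ, (σ ≫ b) ⁻¹ᵁ (U d).1),
      val _ ω = ((σ ≫ b).app (U d).1 (t d) : Γ(D, (σ ≫ b) ⁻¹ᵁ (U d).1)) := fun d =>
    exists_val_eq _ ⟨(σ ≫ b) ⁻¹ᵁ (U d).1, (U d).2.preimage _⟩ (by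
      have := ((hg d).reg ⟨(σ ≫ b) ⁻¹ᵁ (U d).1, (U d).2.preimage _⟩ le_rfl).2
      rw [ores_refl] at this
      rw [this]
      exact Ideal.mem_span_singleton_self _)
  choose ζ hζ using hζ
  choose υ hυ using hυ
  choose ω hω using hω
  have ge : ∀ d, IsGen (cg (σ ≫ b) (U d).1 (ζ d)) := fun d =>
    isGen_cg (σ ≫ b) hi (U d).2 (z d) (hg d).ker (hg d).ann (ζ d) (hζ d)
  have gυ : ∀ d, IsGen (cgb σ b (U d).1 (υ d)) := fun d =>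
    isGen_cgb σ b hσ (hg d).aff (u d) (hg d).ker' (hg d).ann' (υ d) (hυ d)
  have gω : ∀ d, IsGen (ω d) := fun d => isGen_of_genOn ((hω d).symm ▸ (hg d).reg)
  have gn : ∀ d, IsGen (M := CohB1.tensorMod (Omega.conormal σ) (ClSub.idealMod δ))
      (U := (σ ≫ b) ⁻¹ᵁ (U d).1) (tmul (cgb σ b (U d).1 (υ d)) (ω d)) := fun d =>
    (gυ d).tmul (gω d)
  have hcov : (⨆ d, (σ ≫ b) ⁻¹ᵁ (U d).1) = ⊤ :=
    top_le_iff.1 fun y _ => Opens.mem_iSup.2 ⟨y, hd y⟩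
  have htrans : ∀ (i j : D) (V : D.Opens) (hi : V ≤ (σ ≫ b) ⁻¹ᵁ (U i).1)
      (hj : V ≤ (σ ≫ b) ⁻¹ᵁ (U j).1) (a : Γ(D, V)),
      res (Omega.conormal (σ ≫ b)) hi (cg (σ ≫ b) (U i).1 (ζ i)) =
        a • res (Omega.conormal (σ ≫ b)) hj (cg (σ ≫ b) (U j).1 (ζ j)) →
      res (CohB1.tensorMod (Omega.conormal σ) (ClSub.idealMod δ)) hi
          (tmul (cgb σ b (U i).1 (υ i)) (ω i)) =
        a • res (CohB1.tensorMod (Omega.conormal σ) (ClSub.idealMod δ)) hj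
          (tmul (cgb σ b (U j).1 (υ j)) (ω j)) := by
    intro i j V hi' hj' a ha
    have key : ∀ x : V, ∃ W : C.affineOpens, (σ ≫ b) x.1 ∈ W.1 ∧ (σ ≫ b) ⁻¹ᵁ W.1 ≤ V ∧
        W.1 ≤ (U i).1 ⊓ (U j).1 := fun x =>
      exists_affine_nbhd (σ ≫ b) V ((U i).1 ⊓ (U j).1) x.1 x.2 ⟨hi' x.2, hj' x.2⟩
    choose W hxW hWV hWU using key
    refine res_ext _ (fun x : V => (σ ≫ b) ⁻¹ᵁ (W x).1) hWV
      (fun x hx => Opens.mem_iSup.2 ⟨⟨x, hx⟩, hxW ⟨x, hx⟩⟩) fun x => ?_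
    obtain ⟨α, hα, hα'⟩ := exists_trans σ b δ hσ (hg i) (hg j) (hζ i) (hζ j) (hυ i) (hυ j)
      (hω i) (hω j) (W x) ((hWU x).trans inf_le_left) ((hWU x).trans inf_le_right)
    have h1 := congrArg (res (Omega.conormal (σ ≫ b)) (hWV x)) ha
    rw [res_smul, res_res, res_res] at h1
    have h2 : ores (hWV x) a = α := ((ge j).res _).ext (h1.symm.trans hα)
    rw [res_smul, res_res, res_res, h2]
    exact hα'
  obtain ⟨φ, -⟩ := exists_iso (L := Omega.conormal (σ ≫ b))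
    (N := CohB1.tensorMod (Omega.conormal σ) (ClSub.idealMod δ)) hcov
    (e := fun d => cg (σ ≫ b) (U d).1 (ζ d)) ge
    (n := fun d => tmul (cgb σ b (U d).1 (υ d)) (ω d)) htrans gn
  exact ⟨φ⟩

end glue

/-- The blow-up of a ribbon on `D` in a Cartier divisor of `D` is a ribbon on `D`, with conormal bundle
twisted by the divisor. -/
theorem main {D X C : Scheme.{u}} (σ : D ⟶ X) (b : X ⟶ C) [IsClosedImmersion σ]
    [IsClosedImmersion (σ ≫ b)] (h2 : (σ ≫ b).ker ^ 2 = ⊥)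
    (h : PicF.IsInvertible (Omega.conormal (σ ≫ b))) (δ : D.IdealSheafData)
    (hδ : BlowUp.IsEffCartierIdeal δ) (hb : BlowUp.IsBlowUp b (δ.subschemeι ≫ (σ ≫ b)).ker) :
    σ.ker ^ 2 = ⊥ ∧ Nonempty (Omega.conormal (σ ≫ b) ≅
      CohB1.tensorMod (Omega.conormal σ) (ClSub.idealMod δ)) := by
  have hi : SqZ (σ ≫ b) := SqZ.of_ker _ h2
  have hgood := exists_good σ b hi h δ hδ hb
  have hsurj := K953.MultBasic.surjective_of_ker_pow (σ ≫ b) 2 h2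
  have hsq : σ.ker ^ 2 = ⊥ := by
    choose U z t u hd hg using hgood
    have hcov : (⨆ d, (b ⁻¹ᵁ (U d).1)) = ⊤ := by
      refine top_le_iff.1 fun y _ => ?_
      obtain ⟨d, hd'⟩ := (σ ≫ b).surjective (b y)
      refine Opens.mem_iSup.2 ⟨d, ?_⟩
      change b y ∈ (U d).1
      rw [← hd']
      exact hd d
    refine Scheme.IdealSheafData.ext_of_iSup_eq_top (fun d => ⟨b ⁻¹ᵁ (U d).1, (hg d).aff⟩) hcov
      fun d => ?_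
    rw [Scheme.IdealSheafData.ideal_pow, Pi.pow_apply, (hg d).ker', Ideal.span_singleton_pow, pow_two,
      (hg d).sq', Ideal.span_singleton_eq_bot.2 rfl]
    rfl
  exact ⟨hsq, nonempty_iso σ b hi (SqZ.of_ker _ hsq) δ hgood⟩

end K137.RibBlow
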