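import Groth.Agent.Ribbon.K137.BlowRibChart

/-!
# Local structure of the blow-up of a ribbon in a Cartier divisor of the reduced subscheme
-/

set_option autoImplicit false

universe u

open CategoryTheory CategoryTheory.Limits AlgebraicGeometry Opposite TopologicalSpace

namespace K137.RibBlow

open Groth.Agent.Divis.BlowChart2
open Groth.Agent.PerfA.IdealModule Groth.Agent.Sga67.Sec
open Groth.Agent.Dual.H366.ConSec Groth.Agent.Dual.H366.Conormal
open Groth.Agent.UnramB.FirstOrderNbhd (SqZ)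
open K584.PullCon K953.MultConormal
open Groth.Agent.Dix.IdealModCartier (GenOn genOn_of_affine exists_genOn exists_affine_mem_le)

section princ

variable {D C : Scheme.{u}} (i : D ⟶ C) [IsClosedImmersion i]

/-- Near every point of `D`, on an affine open of `C` whose trace on `D` is as small as we like, the
ideal of a square-zero closed immersion with invertible conormal sheaf is principal of order two. -/
theorem exists_princ (hi : SqZ i) (h : PicF.IsInvertible (Omega.conormal i)) (d : D) (W₀ : D.Opens)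
    (hd : d ∈ W₀) :
    ∃ (U : C.affineOpens) (z : Γ(C, U.1)), i d ∈ U.1 ∧ i ⁻¹ᵁ U.1 ≤ W₀ ∧
      i.ker.ideal U = Ideal.span {z} ∧ ∀ a, a * z = 0 → a ∈ Ideal.span {z} := by
  rw [Groth.Agent.Fdesc.LocGen.isInvertible_iff] at h
  obtain ⟨W, e, hdW, he⟩ := h d
  obtain ⟨W', hW'⟩ : ∃ W' : C.Opens, i ⁻¹ᵁ W' = W ⊓ W₀ := by
    obtain ⟨O, hO, hO'⟩ := i.isClosedEmbedding.isInducing.isOpen_iff.mp (W ⊓ W₀).2
    exact ⟨⟨O, hO⟩, Opens.ext hO'⟩
  have hdW' : d ∈ i ⁻¹ᵁ W' := by rw [hW']; exact ⟨hdW, hd⟩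
  obtain ⟨_, ⟨U, hU, rfl⟩, hxU, hUW⟩ :=
    C.isBasis_affineOpens.exists_subset_of_mem_open (show i d ∈ W' from hdW') W'.2
  have hUW : U ≤ W' := hUW
  have hle : i ⁻¹ᵁ U ≤ W ⊓ W₀ := hW' ▸ i.preimage_mono hUW
  have hUW1 : i ⁻¹ᵁ U ≤ W := hle.trans inf_le_left
  have he' := he (i ⁻¹ᵁ U) hUW1
  obtain ⟨ζ, hζ⟩ := cS_surjective i hU (res (Omega.conormal i) hUW1 e)
  have hbij : Function.Bijective fun a : Γ(D, i ⁻¹ᵁ U) => a • cS i U ζ := by
    rw [hζ]
    exact he'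
  have hspan : i.ker.ideal ⟨U, hU⟩ = Ideal.span {valS i U ζ} := by
    apply le_antisymm
    · intro y hy
      obtain ⟨η, hη⟩ := (app_eq_zero_iffS i U y).mp ((app_eq_zero_iff_mem i hU y).mpr hy)
      obtain ⟨a, ha⟩ := hbij.2 (cS i U η)
      obtain ⟨b, rfl⟩ := i.app_surjective U hU a
      change i.app U b • cS i U ζ = _ at ha
      rw [← cS_smul] at ha
      have h1 : b • ζ = η := cS_injective i hi hU ha
      rw [Ideal.mem_span_singleton]
      exact ⟨b, by rw [← hη, ← h1, map_smul, smul_eq_mul, mul_comm]⟩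
    · rw [Ideal.span_singleton_le_iff_mem]
      exact valS_mem i hU ζ
  refine ⟨⟨U, hU⟩, valS i U ζ, hxU, hle.trans inf_le_right, hspan, ?_⟩
  intro a ha
  rw [← hspan, ← app_eq_zero_iff_mem i hU]
  apply hbij.1
  change i.app U a • cS i U ζ = (0 : Γ(D, i ⁻¹ᵁ U)) • cS i U ζ
  rw [zero_smul, ← cS_smul]
  have h1 : a • ζ = 0 := by
    apply valS_injective
    rw [map_smul, map_zero, smul_eq_mul]
    simpa using ha
  rw [h1, map_zero]

/-- The class of a generator of a square-zero ideal with small annihilator is a generator of the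
conormal sheaf. -/
theorem isGen_cS (hi : SqZ i) {U : C.Opens} (hU : IsAffineOpen U) (z : Γ(C, U))
    (hz : i.ker.ideal ⟨U, hU⟩ = Ideal.span {z}) (hann : ∀ a, a * z = 0 → a ∈ Ideal.span {z})
    (ζ : Sec (ClSub.idealMod i.ker) U) (hζ : valS i U ζ = z) :
    Groth.Agent.Fdesc.LocGen.IsGen (M := Omega.conormal i) (cS i U ζ) := by
  have hinj : ∀ a : Γ(D, i ⁻¹ᵁ U), a • cS i U ζ = 0 → a = 0 := by
    intro a ha
    obtain ⟨b, rfl⟩ := i.app_surjective U hU a
    rw [← cS_smul] at ha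
    have h1 : b • ζ = 0 := cS_injective i hi hU (by rw [ha, map_zero])
    have h2 : b * z = 0 := by
      have := congrArg (valS i U) h1
      rw [map_smul, map_zero, hζ] at this
      exact this
    rw [app_eq_zero_iff_mem i hU, hz]
    exact hann b h2
  have hsurj : ∀ y : Sec (Omega.conormal i) (i ⁻¹ᵁ U), ∃ a : Γ(D, i ⁻¹ᵁ U), a • cS i U ζ = y := by
    intro y
    obtain ⟨η, rfl⟩ := cS_surjective i hU y
    have h1 := valS_mem i hU η
    rw [hz, Ideal.mem_span_singleton] at h1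
    obtain ⟨b, hb⟩ := h1
    refine ⟨i.app U b, ?_⟩
    rw [← cS_smul]
    congr 1
    apply valS_injective
    rw [map_smul, hζ, hb, smul_eq_mul, mul_comm]
  let L : Γ(D, i ⁻¹ᵁ U) →ₗ[Γ(D, i ⁻¹ᵁ U)] Sec (Omega.conormal i) (i ⁻¹ᵁ U) :=
    LinearMap.toSpanSingleton _ _ (cS i U ζ)
  have hL : Function.Bijective L := by
    constructor
    · rw [injective_iff_map_eq_zero]
      exact hinj
    · exact hsurj
  let b : Module.Basis (Fin 1) Γ(D, i ⁻¹ᵁ U) (Sec (Omega.conormal i) (i ⁻¹ᵁ U)) :=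
    (Module.Basis.singleton (Fin 1) _).map (LinearEquiv.ofBijective L hL)
  have hb := K880.Acyclic.isLocBasis_of_isQCoh (isQCoh_conormal i) (hU.preimage i) b
  have hg : Groth.Agent.Krr.H496.GenLocus.IsGen (L := Omega.conormal i) (b 0) := by
    unfold Groth.Agent.Krr.H496.GenLocus.IsGen
    convert hb using 2 with j
    rw [Subsingleton.elim j 0]
    rfl
  rw [Groth.Agent.Krr.H496.GenLocus.isGen_iff] at hg
  have hb0 : b 0 = cS i U ζ := by
    simp only [b, Module.Basis.map_apply, Module.Basis.singleton_apply, LinearEquiv.ofBijective_apply]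
    exact one_smul _ _
  rwa [hb0] at hg

end princ

section loc

variable {D X C : Scheme.{u}} (σ : D ⟶ X) (b : X ⟶ C)

/-- The local shape of the ribbon, the divisor and the blow-up over an affine open. -/
structure Good (δ : D.IdealSheafData) (U : C.affineOpens) (z t : Γ(C, U.1))
    (u : Γ(X, b ⁻¹ᵁ U.1)) : Prop where
  aff : IsAffineOpen (b ⁻¹ᵁ U.1)
  ker : (σ ≫ b).ker.ideal U = Ideal.span {z}
  ann : ∀ a, a * z = 0 → a ∈ Ideal.span {z}
  reg : GenOn δ ((σ ≫ b).app U.1 t : Γ(D, (σ ≫ b) ⁻¹ᵁ U.1))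
  rel : (b.app U.1).hom z = (b.app U.1).hom t * u
  ker' : σ.ker.ideal ⟨b ⁻¹ᵁ U.1, aff⟩ = Ideal.span {u}
  ann' : ∀ a, a * u = 0 → a ∈ Ideal.span {u}
  sq' : u * u = 0

/-- The ideal of the closed subscheme `δ` of `D`, seen in `C`. -/
theorem ker_comp_ideal {D C : Scheme.{u}} (i : D ⟶ C) [IsClosedImmersion i] (δ : D.IdealSheafData)
    (U : C.affineOpens) (a : Γ(C, U.1)) :
    a ∈ (δ.subschemeι ≫ i).ker.ideal U ↔
      (i.app U.1).hom a ∈ δ.ideal ⟨i ⁻¹ᵁ U.1, U.2.preimage i⟩ := by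
  rw [Scheme.Hom.ker_apply, RingHom.mem_ker, Scheme.Hom.comp_app]
  rw [← δ.ker_subschemeι_app ⟨i ⁻¹ᵁ U.1, U.2.preimage i⟩, RingHom.mem_ker]
  rfl

theorem exists_good [IsClosedImmersion σ] [IsClosedImmersion (σ ≫ b)] (hi : SqZ (σ ≫ b))
    (h : PicF.IsInvertible (Omega.conormal (σ ≫ b))) (δ : D.IdealSheafData)
    (hδ : BlowUp.IsEffCartierIdeal δ) (hb : BlowUp.IsBlowUp b (δ.subschemeι ≫ (σ ≫ b)).ker) (d : D) :
    ∃ (U : C.affineOpens) (z t : Γ(C, U.1)) (u : Γ(X, b ⁻¹ᵁ U.1)), (σ ≫ b) d ∈ U.1 ∧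
      Good σ b δ U z t u := by
  obtain ⟨W₀, f, hdW, hf⟩ := exists_genOn hδ d
  obtain ⟨U, z, hdU, hUW, hz, hann⟩ := exists_princ (σ ≫ b) hi h d W₀.1 hdW
  obtain ⟨t, ht⟩ := (σ ≫ b).app_surjective U.1 U.2 (Groth.Agent.Fdesc.LocGen.ores hUW f)
  have hreg : GenOn δ ((σ ≫ b).app U.1 t : Γ(D, (σ ≫ b) ⁻¹ᵁ U.1)) := by
    rw [ht]; exact hf.res hUW
  have hregU := hreg ⟨(σ ≫ b) ⁻¹ᵁ U.1, U.2.preimage _⟩ le_rfl
  rw [Groth.Agent.Fdesc.LocGen.ores_refl] at hregU
  have hz0 : (σ ≫ b).app U.1 z = 0 := by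
    rw [app_eq_zero_iff_mem (σ ≫ b) U.2]
    exact hz ▸ Ideal.mem_span_singleton_self z
  have hz2 : z * z = 0 := hi U.1 z z hz0 hz0
  have hK : (δ.subschemeι ≫ (σ ≫ b)).ker.ideal U = Ideal.span {t, z} := by
    apply le_antisymm
    · intro a ha
      rw [ker_comp_ideal, hregU.2, Ideal.mem_span_singleton] at ha
      obtain ⟨r, hr⟩ := ha
      obtain ⟨r', rfl⟩ := (σ ≫ b).app_surjective U.1 U.2 r
      have h1 : (σ ≫ b).app U.1 (a - t * r') = 0 := by
        rw [map_sub, map_mul, sub_eq_zero]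
        exact hr
      rw [app_eq_zero_iff_mem (σ ≫ b) U.2] at h1
      have h1' : a - t * r' ∈ Ideal.span {z} := hz ▸ h1
      obtain ⟨c, hc⟩ := Ideal.mem_span_singleton.1 h1'
      rw [Ideal.mem_span_pair]
      exact ⟨r', c, by linear_combination -hc⟩
    · rw [Ideal.span_le]
      rintro a (rfl | ha)
      · change a ∈ (δ.subschemeι ≫ (σ ≫ b)).ker.ideal U
        rw [ker_comp_ideal, hregU.2]
        exact Ideal.mem_span_singleton_self _
      · have : a = z := ha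
        subst this
        change a ∈ (δ.subschemeι ≫ (σ ≫ b)).ker.ideal U
        rw [ker_comp_ideal]
        have h0 : ((σ ≫ b).app U.1).hom a = 0 := hz0
        rw [h0]
        exact Ideal.zero_mem _
  obtain ⟨haff, hτ, hgen, hinj, u, hu⟩ := chart_facts' b _ U hb hK hz2
  have hcomp : ∀ c : Γ(C, U.1), ((σ ≫ b).app U.1).hom c =
      (σ.app (b ⁻¹ᵁ U.1)).hom ((b.app U.1).hom c) := by
    intro c
    rw [Scheme.Hom.comp_app]
    rfl
  have hker : ∀ c : Γ(C, U.1), (σ.app (b ⁻¹ᵁ U.1)).hom ((b.app U.1).hom c) = 0 →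
      c ∈ Ideal.span {z} := by
    intro c hc
    rw [← hcomp] at hc
    have h1 := (app_eq_zero_iff_mem (σ ≫ b) U.2 c).1 hc
    exact hz ▸ h1
  have ht' : (σ.app (b ⁻¹ᵁ U.1)).hom ((b.app U.1).hom t) ∈
      nonZeroDivisors Γ(D, σ ⁻¹ᵁ (b ⁻¹ᵁ U.1)) := by
    rw [← hcomp]
    exact hregU.1
  have hzz : (σ.app (b ⁻¹ᵁ U.1)).hom ((b.app U.1).hom z) = 0 := by
    rw [← hcomp]
    exact hz0
  refine ⟨U, z, t, u, hdU, ⟨haff, hz, hann, hreg, hu, ?_, ?_, ?_⟩⟩
  · rw [Scheme.Hom.ker_apply]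
    exact RibBlowAlg.ker_eq (b.app U.1).hom (σ.app (b ⁻¹ᵁ U.1)).hom hker hz2 ht' hτ hgen hzz hu
  · intro a ha
    exact RibBlowAlg.ann_le (b.app U.1).hom (σ.app (b ⁻¹ᵁ U.1)).hom hker hz2 hann ht' hτ hgen hinj
      hzz hu ha
  · exact RibBlowAlg.sq_eq_zero (b.app U.1).hom hz2 hτ hu

end loc

end K137.RibBlow
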