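import Groth.Agent.Ribbon.K137.P1
import Groth.Agent.Lift.K696.HomExt
import Groth.Agent.Lift.K696.IMod
import Groth.Agent.AbVar.K514.Const

/-!
# Cohomology on a square-zero thickening

`i : D → C` a closed immersion; a module killed by `i.ker` has the same cohomology on `D` and on `C`.
-/

set_option autoImplicit false
universe u

open CategoryTheory CategoryTheory.Limits AlgebraicGeometry

namespace K137.RibCoh

open Groth.Agent Groth.Agent.Ega1.ClosedKill

variable {k : Type u} [Field k] {C D : Scheme.{u}} [C.Over (Spec (CommRingCat.of k))]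
  [D.Over (Spec (CommRingCat.of k))] (i : D ⟶ C) [IsClosedImmersion i]
  (hi : i ≫ (C ↘ (Spec (CommRingCat.of k))) = D ↘ (Spec (CommRingCat.of k)))

include hi

/-- Cohomology of a module killed by the ideal of a closed subscheme. -/
theorem nonempty_hh {M : C.Modules} (hM : Kills i.ker M) (p : ℕ) :
    Nonempty (Coh.HH C M p ≃ₗ[k] Coh.HH D ((Scheme.Modules.pullback i).obj M) p) := by
  have := hM.isIso_unit i
  exact ⟨((CurvesC.CurveNum.hhPushₗ k i hi _ p).trans (CurvesA.HHMap.equivOver k
    (asIso ((Scheme.Modules.pullbackPushforwardAdjunction i).unit.app M)).symm p)).symm⟩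

theorem nonempty_hh_of_iso {M : C.Modules} (hM : Kills i.ker M) {N : D.Modules}
    (e : (Scheme.Modules.pullback i).obj M ≅ N) (p : ℕ) : Nonempty (Coh.HH C M p ≃ₗ[k] Coh.HH D N p) := by
  obtain ⟨f⟩ := nonempty_hh i hi hM p
  exact ⟨f.trans (CurvesA.HHMap.equivOver k e p)⟩

omit [IsClosedImmersion i] in
theorem appTop_surjective (h0 : Module.finrank k (Coh.HH D (Coh.structureModule D) 0) = 1) :
    Function.Surjective i.appTop.hom := by
  have h := K514.Const.surjective_appTop_of_finrank k D h0
  intro x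
  obtain ⟨y, hy⟩ := h x
  have h2 : (D ↘ Spec (CommRingCat.of k)).appTop = (C ↘ Spec (CommRingCat.of k)).appTop ≫ i.appTop := by
    rw [← Scheme.Hom.comp_appTop, hi]
  refine ⟨(C ↘ Spec (CommRingCat.of k)).appTop.hom y, ?_⟩
  rw [← hy, h2]
  rfl

end K137.RibCoh
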