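import Groth.Agent.S0843
import Groth.Agent.S0844
import Groth.Agent.S0845
import Groth.Agent.S1697
import Groth.Agent.CAlgX.K581.HomDim
import Groth.Agent.CurvesC.DegIso
import Groth.Agent.Lefpen.H21.PicTwist

/-!
# Cohomology and the Picard group of a scheme isomorphic to the projective line

`e : D ≅ P¹_k` over `k`, `T e n = e^* O(n)`.
* `finrank_T`: `h⁰ = max(n + 1, 0)`, `h¹ = max(-n-1, 0)`, nothing else; `euler_T`, `deg_T`;
* `exists_T`: every invertible module is some `T e n`; `T_inj`.
-/

set_option autoImplicit false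
universe u

open CategoryTheory CategoryTheory.Limits AlgebraicGeometry

namespace K137.RibP1

open Groth.Agent Groth.Agent.Grpsch.PicGrp Groth.Agent.Lefpen.H21.PicTwist

section P1

variable (k : Type u) [Field k]

theorem finrank_zero (m : ℤ) :
    Module.finrank k (Coh.HH (CohB1.ProjSpace 1 k) (Twist.twistProjSpace 1 k m) 0) = (m + 1).toNat := by
  rcases lt_or_ge m 0 with hm | hm
  · have := S0844.result k 1 m 0 (by omega) (by omega)
    rw [Module.finrank_zero_of_subsingleton]
    omega
  · obtain ⟨d, rfl⟩ := Int.eq_ofNat_of_zero_le hm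
    obtain ⟨e⟩ := S0843.result k 1 d
    rw [e.finrank_eq, K581.HomDim.finrank_homogeneous k 1 d, Nat.choose_one_right]
    omega

theorem finrank_one (m : ℤ) :
    Module.finrank k (Coh.HH (CohB1.ProjSpace 1 k) (Twist.twistProjSpace 1 k m) 1) = (-m - 1).toNat := by
  rcases lt_or_ge (-2) m with hm | hm
  · have := S0844.result k 1 m 1 (by omega) (by push_cast; omega)
    rw [Module.finrank_zero_of_subsingleton]
    omega
  · obtain ⟨d, hd⟩ := Int.eq_ofNat_of_zero_le (show 0 ≤ -2 - m by omega)
    obtain ⟨e⟩ := S0845.result k 1 d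
    have h1 : -(((1 : ℕ) : ℤ) + 1 + d) = m := by push_cast; omega
    rw [h1] at e
    rw [e.finrank_eq, K581.HomDim.finrank_homogeneous k 1 d, Nat.choose_one_right]
    omega

theorem subsingleton_two (m : ℤ) (p : ℕ) (hp : 2 ≤ p) :
    Subsingleton (Coh.HH (CohB1.ProjSpace 1 k) (Twist.twistProjSpace 1 k m) p) :=
  S0844.result k 1 m p (by omega) (by omega)

end P1

variable {k : Type u} [Field k] {D : Scheme.{u}} [D.Over (Spec (CommRingCat.of k))]
  (e : D ≅ CohB1.ProjSpace 1 k)

/-- `e^* O(n)` -/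
noncomputable abbrev T (n : ℤ) : D.Modules :=
  (Scheme.Modules.pullback e.hom).obj (Twist.twistProjSpace 1 k n)

omit [D.Over (Spec (CommRingCat.of k))] in
theorem isInvertible_T (n : ℤ) : PicF.IsInvertible (T e n) := isInvertible_pullback_twist e.hom n

omit [D.Over (Spec (CommRingCat.of k))] in
theorem mk_T (n : ℤ) : mk (T e n) (isInvertible_T e n) = hyp e.hom ^ n := mk_pullback_twist e.hom n

omit [D.Over (Spec (CommRingCat.of k))] in
/-- The Picard group of `D` is generated by the class of `O(1)`. -/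
theorem exists_zpow (c : Pic D) : ∃ n : ℤ, c = hyp e.hom ^ n := by
  have h : c = pull e.hom (pull e.inv c) := by rw [← pull_comp, e.hom_inv_id, pull_id]
  obtain ⟨L, hL, hc⟩ := exists_mk (pull e.inv c)
  obtain ⟨d, ⟨f⟩⟩ := S1697.result k 1 L hL
  refine ⟨d, ?_⟩
  rw [h, hc, mk_congr (hM := Groth.Agent.Ega3B.ProjTwist.isInvertible_twistProjSpace 1 k d) f]
  exact mk_T e d

omit [D.Over (Spec (CommRingCat.of k))] in
/-- Every invertible module on `D` is some `e^* O(n)`. -/
theorem exists_T {L : D.Modules} (hL : PicF.IsInvertible L) : ∃ n : ℤ, Nonempty (L ≅ T e n) := by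
  obtain ⟨n, hn⟩ := exists_zpow e (mk L hL)
  rw [← mk_T, mk_eq_iff] at hn
  exact ⟨n, hn⟩

section Num

variable (he : e.hom ≫ CohB1.ProjSpace.toSpec 1 k = D ↘ (Spec (CommRingCat.of k)))

include he

theorem nonempty_equiv_T (n : ℤ) (p : ℕ) : Nonempty (Coh.HH D (T e n) p ≃ₗ[k]
    Coh.HH (CohB1.ProjSpace 1 k) (Twist.twistProjSpace 1 k n) p) :=
  ⟨(CurvesC.CurveNum.hhPushₗ k e.hom he (T e n) p).trans
    (CurvesA.HHMap.equivOver k (CurvesC.DegIso.unitIso e _).symm p)⟩

theorem finrank_T (n : ℤ) (p : ℕ) : Module.finrank k (Coh.HH D (T e n) p) =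
    Module.finrank k (Coh.HH (CohB1.ProjSpace 1 k) (Twist.twistProjSpace 1 k n) p) := by
  obtain ⟨f⟩ := nonempty_equiv_T e he n p
  exact f.finrank_eq

theorem subsingleton_T (n : ℤ) (p : ℕ) (hp : 2 ≤ p) : Subsingleton (Coh.HH D (T e n) p) := by
  obtain ⟨f⟩ := nonempty_equiv_T e he n p
  have := subsingleton_two k n p hp
  exact f.toEquiv.subsingleton

theorem finrank_T_zero (n : ℤ) : Module.finrank k (Coh.HH D (T e n) 0) = (n + 1).toNat := by
  rw [finrank_T e he, finrank_zero]

theorem finrank_T_one (n : ℤ) : Module.finrank k (Coh.HH D (T e n) 1) = (-n - 1).toNat := by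
  rw [finrank_T e he, finrank_one]

theorem finrank_T_two (n : ℤ) (p : ℕ) (hp : 2 ≤ p) : Module.finrank k (Coh.HH D (T e n) p) = 0 := by
  rw [finrank_T e he]
  have := subsingleton_two k n p hp
  exact Module.finrank_zero_of_subsingleton

theorem euler_T (n : ℤ) : Curv2.euler k D (T e n) = n + 1 := by
  unfold Curv2.euler
  rw [finsum_eq_sum_of_support_subset (s := {0, 1})]
  · rw [Finset.sum_pair (by norm_num), finrank_T_zero e he, finrank_T_one e he]
    simp only [pow_zero, one_mul, pow_one]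
    omega
  · intro p hp
    by_contra h
    apply hp
    have h2 : 2 ≤ p := by
      simp only [Finset.coe_insert, Finset.coe_singleton, Set.mem_insert_iff, Set.mem_singleton_iff] at h
      omega
    simp only [finrank_T_two e he n p h2, Nat.cast_zero, mul_zero]

omit he [D.Over (Spec (CommRingCat.of k))] in
theorem nonempty_T_zero : Nonempty (T e 0 ≅ Coh.structureModule D) := by
  rw [← mk_eq_one_iff (isInvertible_T e 0), mk_T, zpow_zero]

theorem euler_structure : Curv2.euler k D (Coh.structureModule D) = 1 := by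
  obtain ⟨f⟩ := nonempty_T_zero e
  rw [← CurvesC.DegIso.euler_congr k f, euler_T e he]
  norm_num

theorem deg_T (n : ℤ) : Curv2.deg k D (T e n) 1 = n := by
  unfold Curv2.deg
  rw [euler_T e he, euler_structure e he]
  push_cast
  ring

theorem T_inj {m n : ℤ} (h : Nonempty (T e m ≅ T e n)) : m = n := by
  obtain ⟨f⟩ := h
  rw [← deg_T e he m, ← deg_T e he n, CurvesC.DegIso.deg_congr k f]

theorem zpow_inj {m n : ℤ} (h : hyp e.hom ^ m = hyp e.hom ^ n) : m = n := by
  rw [← mk_T, ← mk_T, mk_eq_iff] at h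
  exact T_inj e he h

theorem zpowers_bijective : Function.Bijective (zpowersHom (Pic D) (hyp e.hom)) := by
  constructor
  · intro a b h
    rw [zpowersHom_apply, zpowersHom_apply] at h
    exact Multiplicative.toAdd.injective (zpow_inj e he h)
  · intro c
    obtain ⟨n, hn⟩ := exists_zpow e c
    exact ⟨Multiplicative.ofAdd n, by rw [zpowersHom_apply, toAdd_ofAdd, hn]⟩

/-- The Picard group of `D` is `ℤ`. -/
noncomputable def picEquiv : Pic D ≃* Multiplicative ℤ :=
  (MulEquiv.ofBijective (zpowersHom (Pic D) (hyp e.hom)) (zpowers_bijective e he)).symm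

theorem picEquiv_mk {L : D.Modules} (hL : PicF.IsInvertible L) :
    (picEquiv e he (mk L hL)).toAdd = Curv2.deg k D L 1 := by
  obtain ⟨n, ⟨f⟩⟩ := exists_T e hL
  rw [CurvesC.DegIso.deg_congr k f, deg_T e he]
  have h1 : mk L hL = zpowersHom (Pic D) (hyp e.hom) (Multiplicative.ofAdd n) := by
    rw [zpowersHom_apply, toAdd_ofAdd, ← mk_T]
    exact mk_congr f
  have h2 : picEquiv e he (mk L hL) = Multiplicative.ofAdd n := by
    rw [h1]
    exact MulEquiv.symm_apply_apply (MulEquiv.ofBijective _ (zpowers_bijective e he)) _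
  rw [h2, toAdd_ofAdd]

end Num

end K137.RibP1
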