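import Mathlib.Algebra.Group.Subgroup.Ker
import Mathlib.Algebra.Group.TypeTags.Hom
import Mathlib.Algebra.Group.Int.TypeTags
import Mathlib.Algebra.Group.Prod
import Mathlib.Data.Int.Cast.Lemmas

/-!
# An extension of `ℤ` splits
-/

set_option autoImplicit false

namespace K137.RibSplit

/-- If `d : G → ℤ` is surjective with kernel `A`, then `G ≃ A × ℤ` with second component `d`. -/
theorem exists_equiv {G : Type*} {A : Type*} [CommGroup G] [AddCommGroup A] (d : G →* Multiplicative ℤ)
    (hd : Function.Surjective d) (κ : d.ker ≃* Multiplicative A) :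
    ∃ φ : Additive G ≃+ A × ℤ, ∀ x : G, (φ (Additive.ofMul x)).2 = (d x).toAdd := by
  obtain ⟨s, hs⟩ := hd (Multiplicative.ofAdd 1)
  let ψ : A × ℤ →+ Additive G :=
    { toFun := fun p => Additive.ofMul ((κ.symm (Multiplicative.ofAdd p.1) : G) * s ^ p.2)
      map_zero' := by
        simp
      map_add' := fun p q => by
        rw [← ofMul_mul]
        congr 1
        rw [Prod.fst_add, Prod.snd_add, ofAdd_add, map_mul, Subgroup.coe_mul, zpow_add]
        exact mul_mul_mul_comm _ _ _ _ }
  have hψd : ∀ p : A × ℤ, (d (Additive.toMul (ψ p))).toAdd = p.2 := by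
    intro p
    change (d ((κ.symm (Multiplicative.ofAdd p.1) : G) * s ^ p.2)).toAdd = p.2
    rw [map_mul, map_zpow, hs, MonoidHom.mem_ker.1 (κ.symm (Multiplicative.ofAdd p.1)).2, one_mul,
      ← ofAdd_zsmul, toAdd_ofAdd, smul_eq_mul, mul_one]
  have hψ : Function.Bijective ψ := by
    constructor
    · intro p q h
      have h2 : p.2 = q.2 := by rw [← hψd p, ← hψd q, h]
      have h1 : (κ.symm (Multiplicative.ofAdd p.1) : G) * s ^ p.2 =
          (κ.symm (Multiplicative.ofAdd q.1) : G) * s ^ q.2 := Additive.ofMul.injective h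
      rw [h2] at h1
      have h3 := Subtype.ext (mul_right_cancel h1)
      exact Prod.ext (Multiplicative.ofAdd.injective (κ.symm.injective h3)) h2
    · intro x
      let n : ℤ := (d (Additive.toMul x)).toAdd
      have hk : Additive.toMul x * (s ^ n)⁻¹ ∈ d.ker := by
        rw [MonoidHom.mem_ker, map_mul, map_inv, map_zpow, hs, ← ofAdd_zsmul, smul_eq_mul, mul_one,
          ofAdd_toAdd, mul_inv_cancel]
      refine ⟨((κ ⟨_, hk⟩).toAdd, n), ?_⟩
      change Additive.ofMul ((κ.symm (Multiplicative.ofAdd (κ ⟨_, hk⟩).toAdd) : G) * s ^ n) = x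
      rw [ofAdd_toAdd, MulEquiv.symm_apply_apply, inv_mul_cancel_right, ofMul_toMul]
  refine ⟨(AddEquiv.ofBijective ψ hψ).symm, fun x => ?_⟩
  obtain ⟨p, hp⟩ := hψ.2 (Additive.ofMul x)
  have h1 : (AddEquiv.ofBijective ψ hψ).symm (Additive.ofMul x) = p := by
    rw [AddEquiv.symm_apply_eq]
    exact hp.symm
  rw [h1, ← hψd p, hp, toMul_ofMul]

end K137.RibSplit
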