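import Groth.Agent.Ribbon.K137.Coh
import Groth.Agent.Ribbon.K137.Split
import Groth.Agent.PicGrp.K858.ThickSurj
import Groth.Agent.S19504

/-!
# The Picard group of a ribbon on the projective line
-/

set_option autoImplicit false
universe u

open CategoryTheory CategoryTheory.Limits AlgebraicGeometry

namespace K137.RibPicZ

open Groth.Agent Groth.Agent.Ega1.ClosedKill Groth.Agent.Grpsch.PicGrp K137.RibP1

variable {k : Type u} [Field k] {C : Scheme.{u}} [C.Over (Spec (CommRingCat.of k))]
  (I : C.IdealSheafData) (hI : I ^ 2 = ⊥) [I.subscheme.Over (Spec (CommRingCat.of k))]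
  (hi : I.subschemeι ≫ (C ↘ (Spec (CommRingCat.of k))) = I.subscheme ↘ (Spec (CommRingCat.of k)))
  (e : I.subscheme ≅ CohB1.ProjSpace 1 k)
  (he : e.hom ≫ CohB1.ProjSpace.toSpec 1 k = I.subscheme ↘ (Spec (CommRingCat.of k)))
  {g : ℕ} (hcon : Nonempty ((Scheme.Modules.pullback I.subschemeι).obj (ClSub.idealMod I) ≅ T e (-((g : ℤ) + 1))))

omit [C.Over (Spec (CommRingCat.of k))] [I.subscheme.Over (Spec (CommRingCat.of k))] in
include hI in
theorem kills_idealMod : Kills I.subschemeι.ker (ClSub.idealMod I) := by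
  rw [Scheme.IdealSheafData.ker_subschemeι]
  exact K696.IMod.kills_idealMod I hI

section

include hI hi hcon

theorem nonempty_hh_ideal (p : ℕ) : Nonempty (Coh.HH C (ClSub.idealMod I) p ≃ₗ[k]
    Coh.HH I.subscheme (T e (-((g : ℤ) + 1))) p) := by
  obtain ⟨f⟩ := hcon
  exact RibCoh.nonempty_hh_of_iso I.subschemeι hi (kills_idealMod I hI) f p

end

include hI hi he hcon

theorem finrank_ideal_one : Module.finrank k (Coh.HH C (ClSub.idealMod I) 1) = g := by
  obtain ⟨f⟩ := nonempty_hh_ideal I hI hi e hcon 1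
  rw [f.finrank_eq, finrank_T_one e he]
  omega

theorem finrank_ideal_zero : Module.finrank k (Coh.HH C (ClSub.idealMod I) 0) = 0 := by
  obtain ⟨f⟩ := nonempty_hh_ideal I hI hi e hcon 0
  rw [f.finrank_eq, finrank_T_zero e he]
  omega

theorem subsingleton_ideal_two (p : ℕ) (hp : 2 ≤ p) : Subsingleton (Coh.HH C (ClSub.idealMod I) p) := by
  obtain ⟨f⟩ := nonempty_hh_ideal I hI hi e hcon p
  have := subsingleton_T e he (-((g : ℤ) + 1)) p hp
  exact f.toEquiv.subsingleton

omit [C.Over (Spec (CommRingCat.of k))] hI hi hcon in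
theorem finrank_structure : Module.finrank k (Coh.HH I.subscheme (Coh.structureModule I.subscheme) 0) = 1 := by
  obtain ⟨f⟩ := nonempty_T_zero e
  rw [← CurvesC.DegIso.finrank_congr k f, finrank_T_zero e he]
  rfl

theorem exists_equiv [PicGrp.Law C] :
    ∃ φ : Additive (PicLoc.PicSet C) ≃+ Coh.HH C (ClSub.idealMod I) 1 × ℤ,
      ∀ (L : C.Modules) (hL : PicF.IsInvertible L),
        (φ (Additive.ofMul (PicGrp.cls L hL))).2 =
          Curv2.deg k I.subscheme ((Scheme.Modules.pullback I.subschemeι).obj L) 1 := by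
  let _ : PicGrp.Law I.subscheme := K858.Basic.law _
  have hm : PicGrp.PullMul I.subschemeι := K858.Basic.pullMul _
  have hs := RibCoh.appTop_surjective I.subschemeι hi (finrank_structure I e he)
  obtain ⟨κ⟩ := K858.ThickSurj.main I hI hm hs
  have h2 := subsingleton_ideal_two I hI hi e he hcon 2 le_rfl
  let q : PicLoc.PicSet I.subscheme ≃* Multiplicative ℤ :=
    (K858.Basic.ofPic I.subscheme).symm.trans (picEquiv e he)
  have hq : ∀ (L : I.subscheme.Modules) (hL : PicF.IsInvertible L),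
      (q (PicGrp.cls L hL)).toAdd = Curv2.deg k I.subscheme L 1 := by
    intro L hL
    change (picEquiv e he ((K858.Basic.ofPic I.subscheme).symm (PicGrp.cls L hL))).toAdd = _
    rw [K858.Basic.ofPic_symm_cls]
    exact picEquiv_mk e he hL
  let d : PicLoc.PicSet C →* Multiplicative ℤ := q.toMonoidHom.comp (PicGrp.pullHom I.subschemeι hm)
  have hker : d.ker = (PicGrp.pullHom I.subschemeι hm).ker := by
    ext x
    rw [MonoidHom.mem_ker, MonoidHom.mem_ker]
    change q (PicGrp.pullHom I.subschemeι hm x) = 1 ↔ _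
    rw [map_eq_one_iff q q.injective]
  have hd : Function.Surjective d := by
    intro n
    obtain ⟨c, hc⟩ := q.surjective n
    obtain ⟨x, hx, hx'⟩ := S19504.result C I ((pow_two I).symm.trans hI) h2 c.1 c.2
    refine ⟨⟨x, hx⟩, ?_⟩
    change q (PicGrp.pullHom I.subschemeι hm ⟨x, hx⟩) = n
    rw [← hc]
    congr 1
    exact Subtype.ext hx'
  obtain ⟨φ, hφ⟩ := RibSplit.exists_equiv d hd ((MulEquiv.subgroupCongr hker).trans κ)
  refine ⟨φ, fun L hL => ?_⟩
  rw [hφ]
  change (q (PicGrp.pullHom I.subschemeι hm (PicGrp.cls L hL))).toAdd = _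
  rw [PicGrp.pullHom_cls]
  exact hq _ _

end K137.RibPicZ
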